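import Groth.Agent.SSKerX.JHSub
import Groth.Agent.KRRReg.PushDisjoint
import Groth.Agent.QCoh.LocFree
import Groth.Agent.QCoh.AnnIdeal
import Groth.Agent.H23.TopDim
import Groth.Agent.H9ProperSupp.Basic
import Groth.Agent.H9ChowK.SigmaCoh

/-!
# Morphisms of semistable modules vanishing at a point
-/

set_option autoImplicit false
set_option linter.style.haveILetI false
set_option linter.unusedSectionVars false
set_option backward.isDefEq.respectTransparency false
set_option backward.isDefEq.respectTransparency.types false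

universe u

open CategoryTheory CategoryTheory.Limits AlgebraicGeometry Polynomial StabCat TopologicalSpace

noncomputable section

namespace Groth.Agent.SSKerX

open Groth.Agent Groth.Agent.HilbPoly

section Stalks

variable {X : Scheme.{u}}

/-- A module free near a point has a free stalk there. -/
theorem free_stalk_of_nhd {M : X.Modules} (hM : Coh.IsQCoh M) {x : X} {U : X.Opens} (hxU : x ∈ U)
    (h : FlatMod.IsFinLocFree (M.restrict U.ι)) : Module.Free (X.presheaf.stalk x) (M.presheaf.stalk x) := by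
  obtain ⟨W, n, hxW, ⟨e⟩⟩ := h ⟨x, hxU⟩
  let U' : X.Opens := U.ι ''ᵁ W
  have hxU' : x ∈ U' := ⟨⟨x, hxU⟩, hxW, rfl⟩
  have hι : U'.ι = (U.ι.isoImage W).inv ≫ W.ι ≫ U.ι := by
    rw [← cancel_epi (U.ι.isoImage W).hom, Iso.hom_inv_id_assoc, Scheme.Hom.isoImage_hom_ι]
  let e' : M.restrict U'.ι ≅ FlatMod.freeMod (U' : Scheme.{u}) n :=
    (Scheme.Modules.restrictFunctorCongr hι).app M ≪≫
      (QCoh.restrictRestrict M _ _).symm ≪≫
      (Scheme.Modules.restrictFunctor (U.ι.isoImage W).inv).mapIso ((QCoh.restrictRestrict M _ _).symm ≪≫ e) ≪≫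
      QCoh.freeModRestrict _ n
  obtain ⟨_, ⟨V, hV, rfl⟩, hxV, hle⟩ :=
    X.isBasis_affineOpens.exists_subset_of_mem_open (show x ∈ U' from hxU') U'.2
  have hV' : IsAffineOpen V := hV
  obtain ⟨l⟩ := QCoh.free_sections hV' hle e'
  have : Module.Free Γ(X, V) Γ(M, V) := Module.Free.of_equiv l.symm
  letI := QCoh.stalkAlg (X := X) hxV
  letI := QCoh.stalkModule M hxV
  haveI := QCoh.isScalarTower_stalk M hxV
  haveI := QCoh.isLocalization_stalk' hV' hxV
  haveI := QCoh.isLocalizedModule_germLin hM hV' hxV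
  exact Module.free_of_isLocalizedModule (hV'.primeIdealOf ⟨x, hxV⟩).asIdeal.primeCompl (QCoh.germLin M hxV)

/-- A chain from `⊥` whose graded module is free near a point has free last term there. -/
theorem pd_stalk_of_series {C : X.Modules} (s : LTSeries (Subobject C)) (h0 : s.head = ⊥) (h1 : s.last = ⊤)
    (hgr : Coh.IsQCoh (grObj s)) {x : X} {U : X.Opens} (hxU : x ∈ U)
    (h : FlatMod.IsFinLocFree ((grObj s).restrict U.ι)) :
    HasProjectiveDimensionLT (KZ.LFRes.stk C x) 1 := by
  classical
  let St := DerSch.stalkFunctor X x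
  haveI : Module.Free (X.presheaf.stalk x) (KZ.LFRes.stk (grObj s) x) := free_stalk_of_nhd hgr hxU h
  haveI hproj : Module.Projective (X.presheaf.stalk x) (KZ.LFRes.stk (grObj s) x) := Module.Projective.of_free
  haveI : Projective (KZ.LFRes.stk (grObj s) x) :=
    (IsProjective.iff_projective (R := X.presheaf.stalk x) _).1 hproj
  have hfac : ∀ i, HasProjectiveDimensionLT (KZ.LFRes.stk (factor s i) x) 1 := fun i => by
    let ι₁ : factor s i ⟶ grObj s := Limits.Sigma.ι (factor s) i
    let π₁ : grObj s ⟶ factor s i :=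
      Limits.Sigma.desc fun j => if hji : j = i then eqToHom (by rw [hji]) else 0
    have h1 : ι₁ ≫ π₁ = 𝟙 _ := by
      simp only [ι₁, π₁]
      rw [Limits.Sigma.ι_desc, dif_pos rfl]
      simp
    let r : Retract (KZ.LFRes.stk (factor s i) x) (KZ.LFRes.stk (grObj s) x) :=
      ⟨St.map ι₁, St.map π₁, by rw [← Functor.map_comp, h1, CategoryTheory.Functor.map_id]⟩
    haveI : Projective (KZ.LFRes.stk (factor s i) x) := r.projective
    infer_instance
  have key : ∀ i : Fin (s.length + 1), HasProjectiveDimensionLT (KZ.LFRes.stk (s i : X.Modules) x) 1 := by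
    intro i
    induction i using Fin.induction with
    | zero =>
      have hz : IsZero ((s 0 : Subobject C) : X.Modules) := by
        rw [show s 0 = ⊥ from h0]; exact (isZero_zero _).of_iso Subobject.botCoeIsoZero
      haveI : Projective (KZ.LFRes.stk ((s 0 : Subobject C) : X.Modules) x) :=
        Projective.of_iso ((St.map_isZero hz).isoZero.symm) inferInstance
      infer_instance
    | succ i ih =>
      have hse : (ShortComplex.mk (Subobject.ofLE (s i.castSucc) (s i.succ) (le_of_lt (s.step i))) (cokernel.π _)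
          (cokernel.condition _)).ShortExact :=
        .mk' (ShortComplex.exact_of_g_is_cokernel _ (cokernelIsCokernel _)) inferInstance inferInstance
      exact (KZ.LFRes.stk_shortExact hse x).hasProjectiveDimensionLT_X₂ 1 ih (hfac i)
  haveI : IsIso (s (Fin.last s.length)).arrow := (Subobject.isIso_arrow_iff_eq_top _).2 h1
  haveI := key (Fin.last s.length)
  exact hasProjectiveDimensionLT_of_iso (St.mapIso (asIso (s (Fin.last s.length)).arrow)) 1

end Stalks

variable {X : Scheme.{u}} {k : Type u} [Field k] [X.Over (Spec (CommRingCat.of k))]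
  [IsProper (X ↘ Spec (CommRingCat.of k))] {L : X.Modules} {d : ℕ}

/-- The image of a morphism between semistable modules of the same reduced polynomial. -/
theorem image_redEq (hL : CohB1.IsAmple L) {E F : X.Modules} (hE : ShStab.IsSemistable k X L E d)
    (hF : ShStab.IsSemistable k X L F d) {pE pF pI : ℚ[X]} (hpE : ShStab.IsHilbPoly k X L E pE)
    (hpF : ShStab.IsHilbPoly k X L F pF) (hred : RedEq d pE pF) {I : X.Modules} (hI : Coh.IsCoh I)
    (p : E ⟶ I) [Epi p] (b : I ⟶ F) [Mono b] (hpI : ShStab.IsHilbPoly k X L I pI) :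
    RedEq d pI pF ∧ RedEq d pI pE := by
  obtain ⟨hEc, hE0, hEp, hEss⟩ := hE
  obtain ⟨hFc, hF0, hFp, hFss⟩ := hF
  have hdE := dim_of_isPure hEp hEc hE0
  have hαE := alpha_pos hL hEc hdE hpE
  have hαF := alpha_pos hL hFc (dim_of_isPure hFp hFc hF0) hpF
  obtain ⟨hKc, -, hpK⟩ := kernel_data (k := k) hL hEc hI hdE.le p hpE hpI
  by_cases hI0 : IsZero I
  · rw [isHilbPoly_unique hpI (hilb_isZero hI0)]
    simp [RedEq, alpha]
  have hαI : 0 < alpha d pI := alpha_pos hL hI (hFp I b inferInstance hI hI0) hpI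
  have h1 : RedLE d pI pF := by
    by_cases hiso : IsIso b
    · rw [isHilbPoly_unique (hilb_iso (asIso b) hpI) hpF]
      exact ⟨0, fun m _ => le_rfl⟩
    exact hFss I b inferInstance hI hI0 hiso pI pF hpI hpF
  have h2 : RedLE d (pE - pI) pE := by
    by_cases hK0 : IsZero (kernel p)
    · rw [isHilbPoly_unique hpK (hilb_isZero hK0)]
      exact ⟨0, fun m _ => by simp [alpha]⟩
    by_cases hiso : IsIso (kernel.ι p)
    · rw [isHilbPoly_unique (hilb_iso (asIso (kernel.ι p)) hpK) hpE]
      exact ⟨0, fun m _ => le_rfl⟩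
    exact hEss _ (kernel.ι p) inferInstance hKc hK0 hiso _ _ hpK hpE
  have h3 : RedLE d pE pI := by
    obtain ⟨N, hN⟩ := h2
    refine ⟨N, fun m hm => ?_⟩
    have h := hN m hm
    simp only [alpha_sub, Polynomial.eval_smul, Polynomial.eval_sub, smul_eq_mul, mul_sub, sub_mul] at h ⊢
    linarith
  have h4 : RedEq d pI pE := redEq_of_le_le (redLE_of_redEq hαE.le hαF hred h1) h3
  exact ⟨redEq_trans hαE.ne' h4 hred, h4⟩

/-- A morphism of semistable modules with the same reduced polynomial which vanishes at a point where the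
graded modules are free is zero, on an irreducible scheme of the same dimension. -/
theorem eq_zero_of_pullback_eq_zero (hL : CohB1.IsAmple L) [IrreducibleSpace X]
    (hX : topologicalKrullDim X = (d : WithBot ℕ∞)) {E F : X.Modules} (hE : ShStab.IsSemistable k X L E d)
    (hF : ShStab.IsSemistable k X L F d) {pE pF : ℚ[X]} (hpE : ShStab.IsHilbPoly k X L E pE)
    (hpF : ShStab.IsHilbPoly k X L F pF) (hred : RedEq d pE pF) {T : Scheme.{u}} [Nonempty T] (ξ : T ⟶ X)
    (sF : LTSeries (Subobject F)) (hsF : ShStab.IsJHFiltration k X L F d sF)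
    (hgrF : ∀ x ∈ Set.range ξ.base, ∃ U : X.Opens, x ∈ U ∧ FlatMod.IsFinLocFree ((grObj sF).restrict U.ι))
    (f : E ⟶ F) (hf : (Scheme.Modules.pullback ξ).map f = 0) : f = 0 := by
  haveI : IsNoetherian X := CurveCohLib.isNoetherian_of_proper (k := k)
  let I := Abelian.coimage f
  let b : I ⟶ F := Abelian.factorThruCoimage f
  let p : E ⟶ I := Abelian.coimage.π f
  have hI : Coh.IsCoh I := QCoh.isCoh_cokernel (QCoh.isCoh_kernel hE.1 hF.1 f).1 hE.1 _
  by_cases hI0 : IsZero I
  · rw [← Abelian.coimage.fac f, hI0.eq_of_tgt (Abelian.coimage.π f) 0, Limits.zero_comp]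
  exfalso
  have hdI := hF.2.2.1 I b inferInstance hI hI0
  obtain ⟨pI, hpI, -, -⟩ := exists_hilb (k := k) hL.1 hI hdI.le
  have hIF := (image_redEq hL hE hF hpE hpF hred hI p b hpI).1
  obtain ⟨-, sC, hsC, hgrC⟩ := exists_subQuot hL hF sF hsF (Set.range ξ.base) hgrF b hI hpI hpF hIF
  have hgrq : Coh.IsQCoh (grObj sC) := (QCoh.isQCoh_iff_iso (Limits.Sigma.whiskerEquiv Equiv.ulift.{u}
    (fun j : ULift.{u} (Fin sC.length) => Iso.refl (factor sC j.down)))).1
    (H9ChowK.isQCoh_sigma _ fun j => (hsC.2.2 j.down).1.1.1)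
  have hse : (ShortComplex.mk b (cokernel.π b) (cokernel.condition b)).ShortExact :=
    .mk' (ShortComplex.exact_of_g_is_cokernel _ (cokernelIsCokernel b)) inferInstance inferInstance
  have hpb := KRRReg.shortExact_pullback_free ξ hse fun t => by
    obtain ⟨U, hxU, hU⟩ := hgrC (ξ.base t) ⟨t, rfl⟩
    exact pd_stalk_of_series sC hsC.1 hsC.2.1 hgrq hxU hU
  haveI : Mono ((Scheme.Modules.pullback ξ).map b) := hpb.mono_f
  haveI : PreservesFiniteColimits (Scheme.Modules.pullback ξ) := inferInstance
  haveI : Epi ((Scheme.Modules.pullback ξ).map p) := (Scheme.Modules.pullback ξ).map_epi p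
  have hz : IsZero ((Scheme.Modules.pullback ξ).obj I) := by
    have h1 : (Scheme.Modules.pullback ξ).map p = 0 := by
      rw [← cancel_mono ((Scheme.Modules.pullback ξ).map b), ← Functor.map_comp, Abelian.coimage.fac, hf,
        Limits.zero_comp]
    refine (IsZero.iff_id_eq_zero _).2 ?_
    rw [← cancel_epi ((Scheme.Modules.pullback ξ).map p), Category.comp_id, h1, Limits.zero_comp]
  obtain ⟨t⟩ := ‹Nonempty T›
  have hsupp := QCoh.support_pullback ξ hI.1 hI.2
  rw [QCoh.support_eq_empty_of_isZero hz (QCoh.isQCoh_pullback ξ hI.1)] at hsupp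
  have hne : CohB1.support I ≠ Set.univ := fun hu => by
    have : t ∈ (∅ : Set T) := by rw [hsupp, hu]; trivial
    exact this
  have hlt := H23.TopDim.dim_lt_of_ssubset (X := X) (by rw [hX]; exact WithBot.coe_injective.ne (ENat.coe_ne_top d))
    (H9ProperSupp.isClosed_support hI) hne
  rw [hdI, hX] at hlt
  exact lt_irrefl _ hlt

end Groth.Agent.SSKerX
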