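import Groth.Agent.SSKerX.InfAff
import Groth.Agent.SSKerX.FibreZero
import Groth.Agent.QCoh.RpushModel
import Groth.Agent.TwistFlat.Transfer
import Groth.Agent.QCoh.RpushStalk
import Mathlib.AlgebraicGeometry.AlgClosed.Basic

/-!
# Vanishing of a morphism along a section, over a general base
-/

set_option autoImplicit false
set_option linter.style.haveILetI false
set_option linter.unusedSectionVars false
set_option backward.isDefEq.respectTransparency false
set_option backward.isDefEq.respectTransparency.types false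

universe u

open CategoryTheory CategoryTheory.Limits AlgebraicGeometry TopologicalSpace Opposite IsLocalRing

noncomputable section

namespace Groth.Agent.SSKerX

open Groth.Agent

theorem pullback_comp_map_eq_zero {X Y Z : Scheme.{u}} (a : Z ⟶ Y) (b : Y ⟶ X) {E F : X.Modules} (φ : E ⟶ F) :
    (Scheme.Modules.pullback (a ≫ b)).map φ = 0 ↔
      (Scheme.Modules.pullback a).map ((Scheme.Modules.pullback b).map φ) = 0 := by
  have h := (Scheme.Modules.pullbackComp a b).hom.naturality φ
  simp only [Functor.comp_map] at h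
  constructor
  · intro h0
    rw [h0, comp_zero] at h
    exact (cancel_mono ((Scheme.Modules.pullbackComp a b).hom.app F)).1 (h.trans zero_comp.symm)
  · intro h0
    rw [h0, zero_comp] at h
    exact (cancel_epi ((Scheme.Modules.pullbackComp a b).hom.app E)).1 (h.symm.trans comp_zero.symm)

theorem free_stalk_pullback {X Y : Scheme.{u}} (f : Y ⟶ X) (M : X.Modules) (y : Y)
    [Module.Free (X.presheaf.stalk (f y)) (KZ.LFRes.stk M (f y))] :
    Module.Free (Y.presheaf.stalk y) (KZ.LFRes.stk ((Scheme.Modules.pullback f).obj M) y) := by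
  letI : Algebra (X.presheaf.stalk (f y)) (Y.presheaf.stalk y) := (f.stalkMap y).hom.toAlgebra
  haveI : Module.Free (Y.presheaf.stalk y)
      (TensorProduct (X.presheaf.stalk (f y)) (Y.presheaf.stalk y) (KZ.LFRes.stk M (f y))) := inferInstance
  exact Module.Free.of_equiv (M := TensorProduct (X.presheaf.stalk (f y)) (Y.presheaf.stalk y) (KZ.LFRes.stk M (f y)))
    ((KFlatLib.stalkPullbackIso f y).app M).toLinearEquiv.symm

/-- Vanishing on an open subscheme. -/
theorem stalk_eq_zero_of_open {X U : Scheme.{u}} (f : U ⟶ X) [IsOpenImmersion f] {E F : X.Modules} (φ : E ⟶ F)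
    (y : U) (h : ∀ w, stL ((Scheme.Modules.pullback f).map φ) y w = 0) (v : KZ.LFRes.stk E (f y)) :
    stL φ (f y) v = 0 := by
  letI : Algebra (X.presheaf.stalk (f y)) (U.presheaf.stalk y) := (f.stalkMap y).hom.toAlgebra
  have hb := ConcreteCategory.bijective_of_isIso (f.stalkMap y)
  have h1 := mem_of_tmul_eq_zero (B := U.presheaf.stalk y) (M := KZ.LFRes.stk F (f y)) hb.2
    ((pullback_map_stalk_iff f φ y).1 (ModuleCat.hom_ext (LinearMap.ext h)) v)
  rw [show RingHom.ker (algebraMap (X.presheaf.stalk (f y)) (U.presheaf.stalk y)) = ⊥ from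
    (RingHom.injective_iff_ker_eq_bot _).1 hb.1, Submodule.bot_smul] at h1
  exact (Submodule.mem_bot _).1 h1

/-- Flatness over an affine base, with the global module structure. -/
theorem flat_stalk_of_isFlatOverAt {A : Type u} [CommRing A] {X : Scheme.{u}} [X.Over (Spec (CommRingCat.of A))]
    (M : X.Modules) (y : X) (h : FlatMod.IsFlatOverAt (X ↘ Spec (CommRingCat.of A)) M y) :
    (letI : Module A (KZ.LFRes.stk M y) := Module.compHom _ (baseHom A y)
     Module.Flat A (KZ.LFRes.stk M y)) := by
  have h' := (QCoh.isFlatOverAt_iff _ (isAffineOpen_top (Spec (CommRingCat.of A))) (le_top : (⊤ : X.Opens) ≤ _)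
    (x := y) trivial).1 h
  refine TwistFlat.flat_of_compHom _ _ (Scheme.ΓSpecIso (CommRingCat.of A)).inv.hom
    (ConcreteCategory.bijective_of_isIso (Scheme.ΓSpecIso (CommRingCat.of A)).inv) (fun a m => ?_) h'
  refine congrArg (fun c : X.presheaf.stalk y => c • m) ?_
  simp [baseHom, Coh.toGlobal, Scheme.Hom.appLE]

set_option maxHeartbeats 1000000 in
/-- Vanishing of the stalk at a point over a rational point of the base. -/
theorem stalk_eq_zero_global {k : Type u} [Field k] {X S : Scheme.{u}} (π : X ⟶ S) [IsLocallyNoetherian S]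
    [LocallyOfFiniteType π] {E F : X.Modules} (hF : Coh.IsCoh F) (hflat : FlatMod.IsFlatOver π F)
    (ξ : S ⟶ X) (hξ : ξ ≫ π = 𝟙 S) (φ : E ⟶ F) (hφ : (Scheme.Modules.pullback ξ).map φ = 0)
    (t : Spec (CommRingCat.of k) ⟶ S) [IsClosedImmersion t] (ξt : Spec (CommRingCat.of k) ⟶ pullback π t)
    (hξt : ξt ≫ pullback.fst π t = t ≫ ξ)
    [Module.Free (X.presheaf.stalk (ξ (t default))) (KZ.LFRes.stk F (ξ (t default)))]
    (hzero : ∀ g : (Scheme.Modules.pullback (pullback.fst π t)).obj E ⟶
        (Scheme.Modules.pullback (pullback.fst π t)).obj F,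
      (Scheme.Modules.pullback ξt).map g = 0 → g = 0)
    (x : X) (hx : π x = t default) (v : KZ.LFRes.stk E x) : stL φ x v = 0 := by
  haveI : IsLocallyNoetherian X := LocallyOfFiniteType.isLocallyNoetherian π
  obtain ⟨_, ⟨V, hV, rfl⟩, htV, -⟩ :=
    S.isBasis_affineOpens.exists_subset_of_mem_open (Set.mem_univ (t default)) isOpen_univ
  have hV' : IsAffineOpen V := hV
  let W : X.Opens := π ⁻¹ᵁ V
  let A : Type u := Γ(S, V)
  haveI : IsNoetherianRing A := IsLocallyNoetherian.component_noetherian ⟨V, hV'⟩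
  letI : (W : Scheme.{u}).Over (Spec (CommRingCat.of A)) := ⟨QCoh.overSpec π hV'⟩
  have hpb : IsPullback W.ι ((W : Scheme.{u}) ↘ Spec (CommRingCat.of A)) π hV'.fromSpec :=
    QCoh.isPullback_overSpec (f := π) hV'
  -- the section and the point
  let η : Spec (CommRingCat.of A) ⟶ (W : Scheme.{u}) :=
    hpb.lift (hV'.fromSpec ≫ ξ) (𝟙 _) (by rw [Category.assoc, hξ, Category.comp_id, Category.id_comp])
  have hη : η ≫ ((W : Scheme.{u}) ↘ Spec (CommRingCat.of A)) = 𝟙 _ := hpb.lift_snd _ _ _
  have hηι : η ≫ W.ι = hV'.fromSpec ≫ ξ := hpb.lift_fst _ _ _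
  let t' : Spec (CommRingCat.of k) ⟶ Spec (CommRingCat.of A) :=
    IsOpenImmersion.lift hV'.fromSpec t (by
      rintro _ ⟨y, rfl⟩
      rw [Subsingleton.elim y default]
      exact (Set.ext_iff.1 hV'.range_fromSpec _).2 htV)
  have ht' : t' ≫ hV'.fromSpec = t := IsOpenImmersion.lift_fac _ _ _
  haveI : IsClosedImmersion t' := by
    haveI : IsClosedImmersion (t' ≫ hV'.fromSpec) := by rw [ht']; infer_instance
    exact IsClosedImmersion.of_comp t' hV'.fromSpec
  let j : pullback π t ⟶ (W : Scheme.{u}) :=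
    hpb.lift (pullback.fst π t) (pullback.snd π t ≫ t') (by rw [Category.assoc, ht', pullback.condition])
  have hjι : j ≫ W.ι = pullback.fst π t := hpb.lift_fst _ _ _
  have sq : IsPullback j (pullback.snd π t) ((W : Scheme.{u}) ↘ Spec (CommRingCat.of A)) t' :=
    IsPullback.of_right (by rw [hjι, ht']; exact IsPullback.of_hasPullback π t) (hpb.lift_snd _ _ _) hpb
  have hξt' : ξt ≫ j = t' ≫ η := by
    rw [← cancel_mono W.ι, Category.assoc, Category.assoc, hjι, hηι, hξt, reassoc_of% ht']
  -- the modules on the preimage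
  let P := Scheme.Modules.pullback W.ι
  have hF' : Coh.IsCoh (P.obj F) := ⟨QCoh.isQCoh_pullback _ hF.1, QCoh.isFT_pullback _ hF.1 hF.2⟩
  have hflat' : ∀ y : ↥(W : Scheme.{u}), (letI : Module A (KZ.LFRes.stk (P.obj F) y) := Module.compHom _ (baseHom A y)
      Module.Flat A (KZ.LFRes.stk (P.obj F) y)) :=
    fun y => flat_stalk_of_isFlatOverAt _ y (MorLib.FlatBC.isFlatOverAt_baseChange π
      ((W : Scheme.{u}) ↘ Spec (CommRingCat.of A)) W.ι hV'.fromSpec hpb F y (hflat _))
  have hpt : W.ι (η (t' default)) = ξ (t default) := by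
    rw [← Scheme.Hom.comp_apply, hηι, Scheme.Hom.comp_apply, ← Scheme.Hom.comp_apply t', ht']
  haveI : Module.Free ((W : Scheme.{u}).presheaf.stalk (η (t' default))) (KZ.LFRes.stk (P.obj F) (η (t' default))) := by
    haveI : Module.Free (X.presheaf.stalk (W.ι (η (t' default)))) (KZ.LFRes.stk F (W.ι (η (t' default)))) := by
      rw [hpt]; infer_instance
    exact free_stalk_pullback W.ι F _
  have hφ' : (Scheme.Modules.pullback η).map (P.map φ) = 0 := by
    rw [← pullback_comp_map_eq_zero, hηι, pullback_comp_map_eq_zero, hφ, Functor.map_zero]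
  have hzero' : ∀ g : (Scheme.Modules.pullback j).obj (P.obj E) ⟶ (Scheme.Modules.pullback j).obj (P.obj F),
      (Scheme.Modules.pullback ξt).map g = 0 → g = 0 := fun g hg => by
    let e : ∀ M : X.Modules, (Scheme.Modules.pullback j).obj (P.obj M) ≅
        (Scheme.Modules.pullback (pullback.fst π t)).obj M := fun M =>
      (Scheme.Modules.pullbackComp j W.ι).app M ≪≫ (Scheme.Modules.pullbackCongr hjι).app M
    have h := hzero ((e E).inv ≫ g ≫ (e F).hom) (by
      rw [Functor.map_comp, Functor.map_comp, hg, zero_comp, comp_zero])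
    rw [← cancel_epi (e E).inv, ← cancel_mono (e F).hom, Category.assoc, h, comp_zero, zero_comp]
  -- conclusion
  obtain ⟨y, rfl⟩ : x ∈ Set.range W.ι := by
    rw [Scheme.Opens.range_ι]
    show π x ∈ V
    rwa [hx]
  have hy : ((W : Scheme.{u}) ↘ Spec (CommRingCat.of A)) y = t' default := by
    apply hV'.fromSpec.isOpenEmbedding.injective
    show (((W : Scheme.{u}) ↘ Spec (CommRingCat.of A)) ≫ hV'.fromSpec) y = (t' ≫ hV'.fromSpec) default
    rw [← hpb.w, ht', Scheme.Hom.comp_apply, hx]
  haveI : IsLocallyNoetherian (W : Scheme.{u}) := isLocallyNoetherian_of_isOpenImmersion W.ι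
  exact stalk_eq_zero_of_open W.ι φ y
    (fun w => stalk_eq_zero_of_fibre hF' hflat' η hη (P.map φ) hφ' t' sq ξt hξt' hzero' y hy w) v

/-- A morphism of coherent modules on a quasi-compact scheme vanishing at all closed points is zero. -/
theorem eq_zero_of_closed_points {X : Scheme.{u}} [CompactSpace X] [IsLocallyNoetherian X] {E F : X.Modules}
    (hE : Coh.IsCoh E) (hF : Coh.IsCoh F) (φ : E ⟶ F)
    (h : ∀ x : X, IsClosed ({x} : Set X) → ∀ v, stL φ x v = 0) : φ = 0 := by
  let I := Abelian.coimage φ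
  have hI : Coh.IsCoh I := QCoh.isCoh_cokernel (QCoh.isCoh_kernel hE hF φ).1 hE _
  refine CurveHom.eq_zero_of_stalk _ fun x v => ?_
  have hs : CohB1.support I = ∅ := by
    by_contra hne
    obtain ⟨c, hc, hcl⟩ := (H9ProperSupp.isClosed_support hI).exists_closed_singleton
      (Set.nonempty_iff_ne_empty.2 hne)
    refine hc ⟨fun a b => ?_⟩
    have hi : Function.Injective (stL (Abelian.factorThruCoimage φ) c) := (ModuleCat.mono_iff_injective _).1
      (inferInstanceAs (Mono ((DerSch.stalkFunctor X c).map (Abelian.factorThruCoimage φ))))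
    have hz : ∀ a : KZ.LFRes.stk I c, a = 0 := fun a => by
      obtain ⟨a, rfl⟩ := surjective_stL_π (Abelian.coimage.π φ) c a
      refine hi ?_
      rw [← stL_comp, Abelian.coimage.fac, h c hcl, map_zero]
    exact (hz a).trans (hz b).symm
  have hsub : Subsingleton (KZ.LFRes.stk I x) := by
    by_contra hns
    have hx : x ∈ CohB1.support I := hns
    rw [hs] at hx
    exact hx
  show stL φ x v = 0
  rw [← Abelian.coimage.fac φ, stL_comp, Subsingleton.elim (stL (Abelian.coimage.π φ) x v) 0, map_zero]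

end Groth.Agent.SSKerX
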