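import Groth.Agent.SSKerX.GrFree
import Groth.Agent.SSKerX.InfGlobal
import Groth.Agent.QuotRep.QuotOver
import Groth.Agent.QuotRep.BdAux
import Groth.Agent.FibFlatMod.CritMain
import Groth.Agent.H4BC.GenPtsLim
import Groth.Agent.HilbStrat.Basic
import Groth.Agent.CohBasic.EulerBC

/-!
# The locus of fibres with a bad quotient
-/

set_option autoImplicit false
set_option linter.style.haveILetI false
set_option linter.unusedSectionVars false
set_option backward.isDefEq.respectTransparency false
set_option backward.isDefEq.respectTransparency.types false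

universe u

open CategoryTheory CategoryTheory.Limits AlgebraicGeometry Polynomial TopologicalSpace

noncomputable section

namespace Groth.Agent.SSKerX

open Groth.Agent

/-- Hilbert polynomials over a field through Euler characteristics along the structure map. -/
theorem isHilbPoly_iff_eulerChar {K : Type u} [Field K] {Y : Scheme.{u}} (q : Y ⟶ Spec (CommRingCat.of K))
    [IsProper q] {L L' : Y.Modules} (e : L ≅ L') (hL' : PicF.IsInvertible L') {G : Y.Modules} (hG : Coh.IsQCoh G)
    (Q : ℚ[X]) (t : Spec (CommRingCat.of K)) :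
    (letI : Y.Over (Spec (CommRingCat.of K)) := ⟨q⟩; ShStab.IsHilbPoly K Y L G Q) ↔
      ∀ j : ℕ, (PerfAux.eulerChar q (CohB1.tensorMod G (CohB1.tensorPow L' j)) t : ℚ) = Q.eval (j : ℚ) := by
  letI : Y.Over (Spec (CommRingCat.of K)) := ⟨q⟩
  haveI : IsProper (Y ↘ Spec (CommRingCat.of K)) := ‹IsProper q›
  refine forall_congr' fun j => ?_
  obtain ⟨b⟩ : Nonempty (CohB1.tensorPow L j ≅ CohB1.tensorPow L' j) := H23.PicMul.cl_eq_iff.1 (by
    rw [H23.PicMul.cl_tensorPow, H23.PicMul.cl_tensorPow, H23.PicMul.cl_eq_iff.2 ⟨e⟩])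
  rw [QuotRep.eulerChar_field q
    (CohBasic.isQCoh_tensorMod hG (ProjUPX.isQCoh_of_isInvertible (InvX.isInvertible_tensorPow hL' j))) t]
  have h : Curv2.euler K Y (ShStab.twist Y L G j) = Curv2.euler K Y (CohB1.tensorMod G (CohB1.tensorPow L' j)) :=
    (HilbPoly.additive_euler K).iso _ _ ⟨PicGrp.tensorModIso (Iso.refl G) b⟩
  rw [h]

/-- Freeness descends from a fibre, for modules flat over the base. -/
theorem free_stalk_of_free_fibre {X S T P : Scheme.{u}} (π : X ⟶ S) (t : T ⟶ S) [IsLocallyNoetherian S]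
    [LocallyOfFiniteType π] [IsLocallyNoetherian T] {g : P ⟶ X} {q : P ⟶ T} (sq : IsPullback g q π t)
    {M : X.Modules} (hM : Coh.IsCoh M) (hfl : FlatMod.IsFlatOver π M) (y : P)
    [Module.Free (P.presheaf.stalk y) (((Scheme.Modules.pullback g).obj M).presheaf.stalk y)] :
    Module.Free (X.presheaf.stalk (g y)) (M.presheaf.stalk (g y)) := by
  haveI : IsLocallyNoetherian X := LocallyOfFiniteType.isLocallyNoetherian π
  haveI : LocallyOfFiniteType q := MorphismProperty.of_isPullback sq inferInstance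
  haveI : IsLocallyNoetherian P := LocallyOfFiniteType.isLocallyNoetherian q
  let G := (Scheme.Modules.pullback g).obj M
  have hflatG : FlatMod.IsFlatOverAt (𝟙 P) G y := by
    rw [H4BC.GenPts.flat_id_iff]
    exact Module.Flat.of_free
  have hqf : FibFlatMod.QF (𝟙 X) π M (g y) :=
    (FibFlatMod.qf_baseChange sq (IsPullback.of_vert_isIso ⟨by simp⟩) M hM.1 y).1
      (FibFlatMod.qf_of_flat _ _ G y hflatG)
  haveI : LocallyOfFinitePresentation π := LocallyOfFinitePresentation.iff_locallyOfFiniteType.2 ‹_›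
  haveI : LocallyOfFinitePresentation (𝟙 X ≫ π) := by rw [Category.id_comp]; infer_instance
  have hflat := (FibFlatMod.flatAt_iff_qf (𝟙 X) π M (KZ.LFRes.isFP_of_isCoh hM) _
    (by rw [Category.id_comp]; exact hfl _)).2 hqf
  rw [H4BC.GenPts.flat_id_iff] at hflat
  haveI := hflat
  haveI := QCoh.finite_stalk_of_isFT hM.1 hM.2 (g y)
  exact Module.free_of_flat_of_isLocalRing

/-- The free locus of a coherent module is open. -/
theorem isOpen_free_locus {X : Scheme.{u}} [IsLocallyNoetherian X] {M : X.Modules} (hM : Coh.IsCoh M) :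
    IsOpen {x : X | Module.Free (X.presheaf.stalk x) (M.presheaf.stalk x)} := by
  refine isOpen_iff_forall_mem_open.2 fun x hx => ?_
  haveI : Module.Free (X.presheaf.stalk x) (M.presheaf.stalk x) := hx
  obtain ⟨U, m, hxU, ⟨e⟩⟩ := QCoh.exists_free_nhd_of_free_stalk (KZ.LFRes.isFP_of_isCoh hM) x
  exact ⟨U, fun z hz => free_stalk_of_nhd hM.1 hz fun v => ⟨⊤, m, trivial,
    ⟨(Scheme.Modules.restrictFunctor _).mapIso e ≪≫ QCoh.freeModRestrict _ m⟩⟩, U.isOpen, hxU⟩

section

variable {K : Type u} [Field K] [IsAlgClosed K] {S : Scheme.{u}} (sS : S ⟶ Spec (CommRingCat.of K))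
  [IsNoetherian S] [LocallyOfFiniteType sS] [IsSeparated sS] {n : ℕ} {X : Scheme.{u}}
  (i : X ⟶ CohB1.ProjSpaceOver n S) [IsClosedImmersion i]

set_option quotPrecheck false in
local notation "π₀" => i ≫ CohB1.ProjSpaceOver.toBase n S
set_option quotPrecheck false in
local notation "O₁" => (Scheme.Modules.pullback i).obj (Twist.twistOver n S 1)

/-- Rational points of the base with a quotient of given Hilbert polynomial which is not free along a section
form a closed set. -/
theorem exists_isClosed_badQuot {F : X.Modules} (hF : Coh.IsCoh F) (Φ : ℚ[X]) (ξ : S ⟶ X) (hξ : ξ ≫ π₀ = 𝟙 S) :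
    ∃ B : Set S, IsClosed B ∧ ∀ t : Spec (CommRingCat.of K) ⟶ S, t ≫ sS = 𝟙 _ →
      (t default ∈ B ↔ ∃ (G : (pullback π₀ t).Modules) (q : (Scheme.Modules.pullback (pullback.fst π₀ t)).obj F ⟶ G),
        Epi q ∧ Coh.IsCoh G ∧ (∀ j : ℕ, (PerfAux.eulerChar (pullback.snd π₀ t) (CohB1.tensorMod G
          (CohB1.tensorPow ((Scheme.Modules.pullback (pullback.fst π₀ t)).obj O₁) j)) default : ℚ) = Φ.eval (j : ℚ)) ∧
        ¬ Module.Free ((pullback π₀ t).presheaf.stalk ((PicF.secT π₀ ξ hξ (Over.mk t)).base (default : Spec (CommRingCat.of K))))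
          (G.presheaf.stalk ((PicF.secT π₀ ξ hξ (Over.mk t)).base (default : Spec (CommRingCat.of K))))) := by
  haveI : IsProper π₀ := QuotRep.isProper_comp i
  obtain ⟨W, qW, _, FW, πW, hW, hqW⟩ := QuotRep.exists_univ_over (E := F) i hF Φ
  haveI := hqW
  haveI : LocallyOfFiniteType (pullback.snd π₀ qW) := inferInstance
  haveI : IsLocallyNoetherian (pullback π₀ qW) := LocallyOfFiniteType.isLocallyNoetherian (pullback.snd π₀ qW)
  have hFW : Coh.IsCoh FW := QCoh.isCoh_iff_isFP.2 hW.1.fp
  let σ : W ⟶ pullback π₀ qW := PicF.secT π₀ ξ hξ (Over.mk qW)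
  let Z : Set W := σ ⁻¹' {x | Module.Free ((pullback π₀ qW).presheaf.stalk x) (FW.presheaf.stalk x)}ᶜ
  have hZ : IsClosed Z := ((isOpen_free_locus hFW).isClosed_compl).preimage σ.continuous
  have hσ1 : σ ≫ pullback.fst π₀ qW = qW ≫ ξ := pullback.lift_fst _ _ _
  have hσ2 : σ ≫ pullback.snd π₀ qW = 𝟙 W := pullback.lift_snd _ _ _
  have key : ∀ (t : Spec (CommRingCat.of K) ⟶ S) (h : Spec (CommRingCat.of K) ⟶ W) (hg : h ≫ qW = t)
      (τ : Spec (CommRingCat.of K) ⟶ pullback π₀ t), τ ≫ pullback.fst π₀ t = t ≫ ξ → τ ≫ pullback.snd π₀ t = 𝟙 _ →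
      pullback.lift (pullback.fst π₀ t) (pullback.snd π₀ t ≫ h) (by rw [Category.assoc, hg, pullback.condition])
        (τ default) = σ (h default) := by
    intro t h hg τ hτ1 hτ2
    rw [← Scheme.Hom.comp_apply, ← Scheme.Hom.comp_apply]
    refine congrArg (fun f : Spec (CommRingCat.of K) ⟶ pullback π₀ qW => f default) (pullback.hom_ext ?_ ?_)
    · exact ((Category.assoc _ _ _).trans (congrArg (τ ≫ ·) (pullback.lift_fst _ _ _))).trans (hτ1.trans
        (((congrArg (· ≫ ξ) hg.symm).trans (Category.assoc _ _ _)).trans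
          ((congrArg (h ≫ ·) hσ1.symm).trans (Category.assoc _ _ _).symm)))
    · exact (((Category.assoc _ _ _).trans (congrArg (τ ≫ ·) (pullback.lift_snd _ _ _))).trans
        ((Category.assoc _ _ _).symm.trans ((congrArg (· ≫ h) hτ2).trans (Category.id_comp _)))).trans
          ((Category.comp_id _).symm.trans ((congrArg (h ≫ ·) hσ2.symm).trans (Category.assoc _ _ _).symm))
  refine ⟨qW '' Z, qW.isClosedMap _ hZ, fun t ht => ⟨?_, ?_⟩⟩
  · -- a bad point gives a bad quotient
    intro hs
    have hcl : IsClosed ({t default} : Set S) := by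
      haveI : IsClosedImmersion (t ≫ sS) := by rw [ht]; infer_instance
      haveI : IsClosedImmersion t := IsClosedImmersion.of_comp t sS
      have hr : Set.range t = {t default} := Set.eq_singleton_iff_unique_mem.2
        ⟨⟨default, rfl⟩, by rintro _ ⟨y, rfl⟩; rw [Subsingleton.elim y default]⟩
      rw [← hr]
      exact t.isClosedEmbedding.isClosed_range
    haveI : JacobsonSpace W := LocallyOfFiniteType.jacobsonSpace (qW ≫ sS)
    obtain ⟨z, hz, hzt⟩ := hs
    obtain ⟨w, hw, hwc⟩ := nonempty_inter_closedPoints (Z := Z ∩ qW ⁻¹' {t default}) ⟨z, hz, hzt⟩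
      ((hZ.inter (hcl.preimage qW.continuous)).isLocallyClosed)
    let h : Spec (CommRingCat.of K) ⟶ W := pointOfClosedPoint (qW ≫ sS) w hwc
    have hh : h (default : Spec (CommRingCat.of K)) = w := pointOfClosedPoint_apply _ _ _ _
    have hg : h ≫ qW = t := by
      refine ext_of_apply_closedPoint_eq sS ?_ ht ?_
      · rw [Category.assoc]; exact pointOfClosedPoint_comp _ _ _
      · exact ((congrArg (fun p : Spec (CommRingCat.of K) => qW (h p)) (Subsingleton.elim _ _)).trans
          (congrArg qW hh)).trans (hw.2.trans (congrArg t (Subsingleton.elim _ _)))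
    have hq := hW.1.pull (QuotRep.isInvertible_O1 i) h hg
    let a := pullback.lift (pullback.fst π₀ t) (pullback.snd π₀ t ≫ h)
      (by rw [Category.assoc, hg, pullback.condition])
    refine ⟨_, _, hq.epi, QCoh.isCoh_iff_isFP.2 hq.fp, fun j => hq.poly default j, fun hfree => ?_⟩
    let y := (PicF.secT π₀ ξ hξ (Over.mk t)).base (default : Spec (CommRingCat.of K))
    haveI := hfree
    have hy' : a y = σ w := (key t h hg _ (pullback.lift_fst _ _ _) (pullback.lift_snd _ _ _)).trans (congrArg σ hh)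
    have h2 := free_stalk_of_free_fibre (pullback.snd π₀ qW) h (g := a) (q := pullback.snd π₀ t)
      (QuotRep.isPullback_lift h hg) hFW hW.1.flat y
    rw [hy'] at h2
    exact hw.1 h2
  · -- a bad quotient gives a bad point
    rintro ⟨G, q, hq, hG, hpoly, hbad⟩
    have hIQ : QuotRep.IsQuot π₀ O₁ Φ t q :=
      ⟨hq, QCoh.isCoh_iff_isFP.1 hG, HilbStrat.isFlatOver_field _ G, fun t' j => by
        rw [Subsingleton.elim t' default]; exact hpoly j⟩
    obtain ⟨h, ⟨hg, e, -⟩, -⟩ := hW.2 _ t G q hIQ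
    let a := pullback.lift (pullback.fst π₀ t) (pullback.snd π₀ t ≫ h)
      (by rw [Category.assoc, hg, pullback.condition])
    refine ⟨h default, fun hfree => hbad ?_, by rw [← Scheme.Hom.comp_apply, hg]⟩
    let y := (PicF.secT π₀ ξ hξ (Over.mk t)).base (default : Spec (CommRingCat.of K))
    have hy' : a y = σ (h default) := (key t h hg _ (pullback.lift_fst _ _ _) (pullback.lift_snd _ _ _))
    haveI : Module.Free ((pullback π₀ qW).presheaf.stalk (a y)) (KZ.LFRes.stk FW (a y)) := by
      rw [hy']; exact hfree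
    haveI := free_stalk_pullback a FW y
    exact Module.Free.of_equiv (R := (pullback π₀ t).presheaf.stalk y)
      (M := KZ.LFRes.stk ((Scheme.Modules.pullback a).obj FW) y)
      ((DerSch.stalkFunctor (pullback π₀ t) y).mapIso e).toLinearEquiv

end

end Groth.Agent.SSKerX
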