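import Groth.Agent.HilbPoly.JH
import Groth.Prelude.Def_StabCat
import Groth.Agent.H9Misc.SubobjJH

/-!
# Concatenation of filtrations along a short exact sequence
-/

set_option autoImplicit false
set_option linter.style.haveILetI false
set_option linter.unusedSectionVars false

universe v u

open CategoryTheory CategoryTheory.Limits

noncomputable section

namespace Groth.Agent.SSKerX

variable {C : Type u} [Category.{v} C] [Abelian C] {G E Q : C}

lemma map_strictMono (f : G ⟶ E) [Mono f] : StrictMono (Subobject.map f).obj :=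
  Monotone.strictMono_of_injective (fun _ _ h => ((Subobject.map f).map (homOfLE h)).le)
    (Subobject.map_obj_injective f)

lemma mapObj_eq (f : G ⟶ E) [Mono f] (S : Subobject G) :
    (Subobject.map f).obj S = Subobject.mk (S.arrow ≫ f) := by
  conv_lhs => rw [← Subobject.mk_arrow S]
  rw [Subobject.map_mk]

/-- The object underlying an image subobject. -/
def mapObjIso (f : G ⟶ E) [Mono f] (S : Subobject G) : ((Subobject.map f).obj S : C) ≅ (S : C) :=
  Subobject.isoOfEqMk _ _ (mapObj_eq f S)

lemma mapObjIso_hom (f : G ⟶ E) [Mono f] (S : Subobject G) :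
    (mapObjIso f S).hom ≫ S.arrow ≫ f = ((Subobject.map f).obj S).arrow := by
  simp [mapObjIso]

lemma nonempty_map_factor (f : G ⟶ E) [Mono f] {S T : Subobject G} (h : S ≤ T)
    (h' : (Subobject.map f).obj S ≤ (Subobject.map f).obj T) :
    Nonempty (cokernel (Subobject.ofLE _ _ h') ≅ cokernel (Subobject.ofLE S T h)) :=
  ⟨cokernel.mapIso _ _ (mapObjIso f S) (mapObjIso f T) (by
    haveI : Mono (T.arrow ≫ f) := mono_comp _ _
    rw [← cancel_mono (T.arrow ≫ f), Category.assoc, mapObjIso_hom, Subobject.ofLE_arrow, Category.assoc,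
      ← Category.assoc (Subobject.ofLE S T h), Subobject.ofLE_arrow, mapObjIso_hom])⟩

lemma pullbackπ_epi (q : E ⟶ Q) [Epi q] (S : Subobject Q) : Epi (Subobject.pullbackπ q S) :=
  Abelian.epi_fst_of_isLimit S.arrow q (Subobject.isPullback q S).isLimit

lemma pullback_strictMono (q : E ⟶ Q) [Epi q] : StrictMono (Subobject.pullback q).obj := by
  refine Monotone.strictMono_of_injective (fun _ _ h => ((Subobject.pullback q).map (homOfLE h)).le) ?_
  intro S T hST
  have key : ∀ S T : Subobject Q, (Subobject.pullback q).obj S ≤ (Subobject.pullback q).obj T → S ≤ T := by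
    intro S T h
    haveI := pullbackπ_epi q S
    have hw : Subobject.pullbackπ q S ≫ S.arrow ≫ cokernel.π T.arrow = 0 := by
      rw [← Category.assoc, (Subobject.isPullback q S).w, ← Subobject.ofLE_arrow h, Category.assoc, Category.assoc,
        ← Category.assoc (((Subobject.pullback q).obj T).arrow), ← (Subobject.isPullback q T).w, Category.assoc,
        cokernel.condition, Limits.comp_zero, Limits.comp_zero]
    have hw' : S.arrow ≫ cokernel.π T.arrow = 0 := by
      rw [← cancel_epi (Subobject.pullbackπ q S), hw, Limits.comp_zero]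
    exact Subobject.le_of_comm (Abelian.monoLift T.arrow S.arrow hw') (Abelian.monoLift_comp _ _ _)
  exact le_antisymm (key S T hST.le) (key T S hST.ge)

lemma nonempty_pullback_factor (q : E ⟶ Q) [Epi q] {S T : Subobject Q} (h : S ≤ T)
    (h' : (Subobject.pullback q).obj S ≤ (Subobject.pullback q).obj T) :
    Nonempty (cokernel (Subobject.ofLE _ _ h') ≅ cokernel (Subobject.ofLE S T h)) := by
  haveI := pullbackπ_epi q T
  have hcomm : Subobject.ofLE _ _ h' ≫ Subobject.pullbackπ q T = Subobject.pullbackπ q S ≫ Subobject.ofLE S T h := by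
    rw [← cancel_mono T.arrow, Category.assoc, Category.assoc, (Subobject.isPullback q T).w, ← Category.assoc,
      Subobject.ofLE_arrow, Subobject.ofLE_arrow, (Subobject.isPullback q S).w]
  let φ := cokernel.map _ _ _ _ hcomm
  have hφ : cokernel.π _ ≫ φ = Subobject.pullbackπ q T ≫ cokernel.π _ := cokernel.π_desc _ _ _
  haveI : Epi (cokernel.π (Subobject.ofLE _ _ h') ≫ φ) := by rw [hφ]; exact epi_comp _ _
  haveI : Epi φ := epi_of_epi (cokernel.π (Subobject.ofLE _ _ h')) φ
  haveI : Mono φ := Preadditive.mono_of_cancel_zero _ fun {B} z hz => by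
    obtain ⟨B', e, _, t, ht⟩ := surjective_up_to_refinements_of_epi (cokernel.π (Subobject.ofLE _ _ h')) z
    rw [← cancel_epi e, Limits.comp_zero, ht]
    refine H9Misc.lift_comp_π _ t ?_
    have h1 := H9Misc.factors_of_comp_π h (t ≫ Subobject.pullbackπ q T) (by
      rw [Category.assoc, ← hφ, ← Category.assoc, ← ht, Category.assoc, hz, Limits.comp_zero])
    have h2 : S.factorThru _ h1 ≫ S.arrow = (t ≫ ((Subobject.pullback q).obj T).arrow) ≫ q := by
      rw [Subobject.factorThru_arrow, Category.assoc, (Subobject.isPullback q T).w, Category.assoc]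
    rw [← (Subobject.isPullback q S).lift_snd _ _ h2]
    exact Subobject.factors_of_factors_right _ (Subobject.factors_self _)
  haveI : IsIso φ := isIso_of_mono_of_epi φ
  exact ⟨asIso φ⟩

lemma pullback_bot (f : G ⟶ E) [Mono f] (q : E ⟶ Q) [Epi q] (w : f ≫ q = 0)
    (hk : IsLimit (KernelFork.ofι f w)) : (Subobject.pullback q).obj ⊥ = Subobject.mk f := by
  set P := (Subobject.pullback q).obj (⊥ : Subobject Q)
  have h0 : (⊥ : Subobject Q).arrow = 0 := Subobject.bot_arrow
  have hP : P.arrow ≫ q = 0 := by rw [← (Subobject.isPullback q ⊥).w, h0, Limits.comp_zero]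
  obtain ⟨l, hl⟩ := KernelFork.IsLimit.lift' hk P.arrow hP
  refine le_antisymm ?_ ?_
  · exact Subobject.le_mk_of_comm l hl
  · exact Subobject.mk_le_of_comm ((Subobject.isPullback q ⊥).lift 0 f (by rw [w, Limits.zero_comp]))
      ((Subobject.isPullback q ⊥).lift_snd _ _ _)

/-- Filtrations of a subobject and of the quotient give a filtration with the same factors. -/
theorem exists_concat (f : G ⟶ E) [Mono f] (q : E ⟶ Q) [Epi q] (w : f ≫ q = 0)
    (hk : IsLimit (KernelFork.ofι f w)) (a : LTSeries (Subobject G)) (b : LTSeries (Subobject Q))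
    (ha₀ : a.head = ⊥) (ha₁ : a.last = ⊤) (hb₀ : b.head = ⊥) (hb₁ : b.last = ⊤) :
    ∃ (s : LTSeries (Subobject E)) (σ : Fin a.length ⊕ Fin b.length ≃ Fin s.length), s.head = ⊥ ∧ s.last = ⊤ ∧
      (∀ i, Nonempty (StabCat.factor s (σ (Sum.inl i)) ≅ StabCat.factor a i)) ∧
      ∀ j, Nonempty (StabCat.factor s (σ (Sum.inr j)) ≅ StabCat.factor b j) := by
  let a' := a.map _ (map_strictMono f)
  let b' := b.map _ (pullback_strictMono q)
  have hab : a'.last = b'.head := by
    show (Subobject.map f).obj a.last = (Subobject.pullback q).obj b.head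
    rw [ha₁, hb₀, Subobject.map_top, pullback_bot f q w hk]
  refine ⟨a'.smash b' hab, finSumFinEquiv, ?_, ?_, fun i => ?_, fun j => ?_⟩
  · rw [RelSeries.head_smash]
    show (Subobject.map f).obj a.head = ⊥
    rw [ha₀, Subobject.map_bot]
  · rw [RelSeries.last_smash]
    show (Subobject.pullback q).obj b.last = ⊤
    rw [hb₁, Subobject.pullback_top]
  · have e1 : a'.smash b' hab (Fin.castAdd b.length i).castSucc = (Subobject.map f).obj (a i.castSucc) :=
      RelSeries.smash_castAdd hab i
    have e2 : a'.smash b' hab (Fin.castAdd b.length i).succ = (Subobject.map f).obj (a i.succ) :=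
      RelSeries.smash_succ_castAdd hab i
    obtain ⟨e⟩ := H9Misc.nonempty_qt_iso (le_of_lt ((a'.smash b' hab).step (Fin.castAdd b.length i)))
    obtain ⟨e'⟩ := H9Misc.nonempty_qt_iso (((Subobject.map f).map (homOfLE (le_of_lt (a.step i)))).le)
    obtain ⟨g⟩ := nonempty_map_factor f (le_of_lt (a.step i))
      (((Subobject.map f).map (homOfLE (le_of_lt (a.step i)))).le)
    exact ⟨e.symm ≪≫ eqToIso (congrArg H9Misc.qt (congrArg₂ Prod.mk e1 e2)) ≪≫ e' ≪≫ g⟩
  · have e1 : a'.smash b' hab (Fin.natAdd a.length j).castSucc = (Subobject.pullback q).obj (b j.castSucc) :=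
      RelSeries.smash_natAdd hab j
    have e2 : a'.smash b' hab (Fin.natAdd a.length j).succ = (Subobject.pullback q).obj (b j.succ) :=
      RelSeries.smash_succ_natAdd hab j
    obtain ⟨e⟩ := H9Misc.nonempty_qt_iso (le_of_lt ((a'.smash b' hab).step (Fin.natAdd a.length j)))
    obtain ⟨e'⟩ := H9Misc.nonempty_qt_iso (((Subobject.pullback q).map (homOfLE (le_of_lt (b.step j)))).le)
    obtain ⟨g⟩ := nonempty_pullback_factor q (le_of_lt (b.step j))
      (((Subobject.pullback q).map (homOfLE (le_of_lt (b.step j)))).le)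
    exact ⟨e.symm ≪≫ eqToIso (congrArg H9Misc.qt (congrArg₂ Prod.mk e1 e2)) ≪≫ e' ≪≫ g⟩

end Groth.Agent.SSKerX
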