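import Groth.Agent.SSKerX.Basic
import Groth.Agent.SSKerX.Concat
import Groth.Agent.HilbPoly.JHUnique
import Groth.Agent.ASB.Iso

/-!
# Jordan–Hölder filtrations of a subobject and quotient with the same reduced polynomial
-/

set_option autoImplicit false
set_option linter.style.haveILetI false
set_option linter.unusedSectionVars false
set_option backward.isDefEq.respectTransparency false
set_option backward.isDefEq.respectTransparency.types false

universe u

open CategoryTheory CategoryTheory.Limits AlgebraicGeometry Polynomial StabCat TopologicalSpace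

noncomputable section

namespace Groth.Agent.SSKerX

open Groth.Agent Groth.Agent.HilbPoly

variable {X : Scheme.{u}} {k : Type u} [Field k] [X.Over (Spec (CommRingCat.of k))]
  [IsProper (X ↘ Spec (CommRingCat.of k))] {L : X.Modules} {d : ℕ}

/-- A filtration with stable factors of the reduced polynomial `pE`, also for the zero module. -/
theorem exists_JH' (hL : CohB1.IsAmple L) {G : X.Modules} (pE : ℚ[X])
    (hG : IsZero G ∨ ShStab.IsSemistable k X L G d ∧ ∀ p, ShStab.IsHilbPoly k X L G p → RedEq d p pE) :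
    ∃ a : LTSeries (Subobject G), ShStab.IsJHFiltration k X L G d a ∧
      ∀ i q, ShStab.IsHilbPoly k X L (factor a i) q → RedEq d q pE := by
  rcases hG with hz | ⟨hss, heq⟩
  · have hbt : (⊥ : Subobject G) = ⊤ := by
      haveI : IsIso (⊥ : Subobject G).arrow :=
        ⟨0, ((isZero_zero _).of_iso Subobject.botCoeIsoZero).eq_of_src _ _, hz.eq_of_src _ _⟩
      exact (Subobject.isIso_arrow_iff_eq_top _).1 inferInstance
    exact ⟨RelSeries.singleton _ ⊥, ⟨rfl, hbt, fun i => i.elim0⟩, fun i => i.elim0⟩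
  · obtain ⟨a, ha⟩ := exists_JH hL hss
    obtain ⟨hc, h0, hp, -⟩ := hss
    obtain ⟨pG, hpG, -, -⟩ := exists_hilb (k := k) hL.1 hc (dim_le_of_isPure hp hc)
    exact ⟨a, ha, fun i q hq => redEq_trans (alpha_pos hL hc (dim_of_isPure hp hc h0) hpG).ne'
      ((ha.2.2 i).2 q pG hq hpG) (heq pG hpG)⟩

theorem exists_subQuot (hL : CohB1.IsAmple L) {E G : X.Modules} (hE : ShStab.IsSemistable k X L E d)
    (sE : LTSeries (Subobject E)) (hsE : ShStab.IsJHFiltration k X L E d sE)
    (S : Set X) (hgr : ∀ x ∈ S, ∃ U : X.Opens, x ∈ U ∧ FlatMod.IsFinLocFree ((grObj sE).restrict U.ι))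
    (ι : G ⟶ E) [Mono ι] (hG : Coh.IsCoh G) {pG pE : ℚ[X]} (hpG : ShStab.IsHilbPoly k X L G pG)
    (hpE : ShStab.IsHilbPoly k X L E pE) (hred : RedEq d pG pE) :
    (∃ sG : LTSeries (Subobject G), ShStab.IsJHFiltration k X L G d sG ∧
      ∀ x ∈ S, ∃ U : X.Opens, x ∈ U ∧ FlatMod.IsFinLocFree ((grObj sG).restrict U.ι)) ∧
    (∃ sQ : LTSeries (Subobject (cokernel ι)), ShStab.IsJHFiltration k X L (cokernel ι) d sQ ∧
      ∀ x ∈ S, ∃ U : X.Opens, x ∈ U ∧ FlatMod.IsFinLocFree ((grObj sQ).restrict U.ι)) := by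
  classical
  obtain ⟨a, ha, ha'⟩ := exists_JH' (k := k) hL (G := G) pE (d := d) (by
    by_cases h0 : IsZero G
    · exact Or.inl h0
    · exact Or.inr ⟨sub hL hE ι hG h0 hpG hpE hred, fun p hp => by rw [isHilbPoly_unique hp hpG]; exact hred⟩)
  obtain ⟨b, hb, hb'⟩ := exists_JH' (k := k) hL (G := cokernel ι) pE (d := d) (by
    by_cases h0 : IsZero (cokernel ι)
    · exact Or.inl h0
    · exact Or.inr (quot hL hE ι hG h0 hpG hpE hred))
  obtain ⟨t, σ, ht₀, ht₁, hl, hr⟩ := exists_concat ι (cokernel.π ι) (cokernel.condition ι)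
    (Abelian.monoIsKernelOfCokernel (CokernelCofork.ofπ (cokernel.π ι) (cokernel.condition ι))
      (cokernelIsCokernel ι)) a b ha.1 ha.2.1 hb.1 hb.2.1
  have htJH : ShStab.IsJHFiltration k X L E d t := by
    refine ⟨ht₀, ht₁, fun m => ?_⟩
    obtain ⟨z, rfl⟩ := σ.surjective m
    rcases z with i | j
    · obtain ⟨e⟩ := hl i
      exact ⟨isStable_of_iso e.symm (ha.2.2 i).1, fun p q hp hq => by
        rw [isHilbPoly_unique hq hpE]; exact ha' i p (hilb_iso e hp)⟩
    · obtain ⟨e⟩ := hr j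
      exact ⟨isStable_of_iso e.symm (hb.2.2 j).1, fun p q hp hq => by
        rw [isHilbPoly_unique hq hpE]; exact hb' j p (hilb_iso e hp)⟩
  obtain ⟨-, ⟨eU⟩⟩ := JH_unique hL hE sE t hsE htJH
  have key : ∀ (M : X.Modules) (i : M ⟶ grObj t) (r : grObj t ⟶ M), i ≫ r = 𝟙 M →
      ∀ x ∈ S, ∃ U : X.Opens, x ∈ U ∧ FlatMod.IsFinLocFree (M.restrict U.ι) := by
    intro M i r h x hx
    obtain ⟨U, hxU, hU⟩ := hgr x hx
    haveI : IsNoetherian X := CurveCohLib.isNoetherian_of_proper (k := k)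
    haveI : IsLocallyNoetherian (U : Scheme.{u}) := isLocallyNoetherian_of_isOpenImmersion U.ι
    haveI : CompactSpace (U : Scheme.{u}) := isCompact_iff_compactSpace.mp (NoetherianSpace.isCompact (U : Set X))
    haveI : IsNoetherian (U : Scheme.{u}) := ⟨⟩
    exact ⟨U, hxU, ASB.isFinLocFree_of_retract hU
      ((Scheme.Modules.restrictFunctor U.ι).map (i ≫ eU.inv))
      ((Scheme.Modules.restrictFunctor U.ι).map (eU.hom ≫ r))
      (by rw [← Functor.map_comp, Category.assoc, Iso.inv_hom_id_assoc, h, CategoryTheory.Functor.map_id])⟩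
  let iA : grObj a ⟶ grObj t := Limits.Sigma.desc fun i => (hl i).some.inv ≫ Limits.Sigma.ι (factor t) (σ (Sum.inl i))
  let iB : grObj b ⟶ grObj t := Limits.Sigma.desc fun j => (hr j).some.inv ≫ Limits.Sigma.ι (factor t) (σ (Sum.inr j))
  let gA : ∀ z, factor t (σ z) ⟶ grObj a := fun z => match z with
    | Sum.inl i => (hl i).some.hom ≫ Limits.Sigma.ι (factor a) i
    | Sum.inr _ => 0
  let gB : ∀ z, factor t (σ z) ⟶ grObj b := fun z => match z with
    | Sum.inl _ => 0
    | Sum.inr j => (hr j).some.hom ≫ Limits.Sigma.ι (factor b) j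
  have hg : ∀ {M : X.Modules} (g : ∀ z, factor t (σ z) ⟶ M) (z : Fin a.length ⊕ Fin b.length),
      Limits.Sigma.ι (factor t) (σ z) ≫ Limits.Sigma.desc (fun m =>
        eqToHom (congrArg (factor t) (σ.apply_symm_apply m).symm) ≫ g (σ.symm m)) = g z := by
    intro M g z
    rw [Limits.Sigma.ι_desc]
    have h : ∀ z' (e : z' = z) (p : factor t (σ z) = factor t (σ z')), eqToHom p ≫ g z' = g z := by
      intro z' e p
      subst e
      simp
    exact h _ (σ.symm_apply_apply z) _
  let rA : grObj t ⟶ grObj a := Limits.Sigma.desc fun m =>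
    eqToHom (congrArg (factor t) (σ.apply_symm_apply m).symm) ≫ gA (σ.symm m)
  let rB : grObj t ⟶ grObj b := Limits.Sigma.desc fun m =>
    eqToHom (congrArg (factor t) (σ.apply_symm_apply m).symm) ≫ gB (σ.symm m)
  have hA : iA ≫ rA = 𝟙 _ := Limits.Sigma.hom_ext _ _ fun i => by
    simp only [iA, rA, Limits.Sigma.ι_desc_assoc, Category.assoc, hg gA (Sum.inl i), Category.comp_id]
    simp [gA]
    exact (Category.comp_id _).symm
  have hB : iB ≫ rB = 𝟙 _ := Limits.Sigma.hom_ext _ _ fun j => by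
    simp only [iB, rB, Limits.Sigma.ι_desc_assoc, Category.assoc, hg gB (Sum.inr j), Category.comp_id]
    simp [gB]
    exact (Category.comp_id _).symm
  exact ⟨⟨a, ha, key _ iA rA hA⟩, ⟨b, hb, key _ iB rB hB⟩⟩

end Groth.Agent.SSKerX
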