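import Groth.Agent.HilbPoly.JH

/-!
# Semistable subobjects and quotients of the same reduced Hilbert polynomial
-/

set_option autoImplicit false
set_option linter.style.haveILetI false
set_option linter.unusedSectionVars false
set_option backward.isDefEq.respectTransparency false
set_option backward.isDefEq.respectTransparency.types false

universe u

open CategoryTheory CategoryTheory.Limits AlgebraicGeometry Polynomial StabCat TopologicalSpace

noncomputable section

namespace Groth.Agent.SSKerX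

open Groth.Agent Groth.Agent.HilbPoly

variable {X : Scheme.{u}} {k : Type u} [Field k] [X.Over (Spec (CommRingCat.of k))]
  [IsProper (X ↘ Spec (CommRingCat.of k))] {L : X.Modules} {d : ℕ}

lemma alpha_add (P Q : ℚ[X]) : alpha d (P + Q) = alpha d P + alpha d Q := by
  simp only [alpha, Polynomial.coeff_add]; ring

lemma alpha_sub (P Q : ℚ[X]) : alpha d (P - Q) = alpha d P - alpha d Q := by
  simp only [alpha, Polynomial.coeff_sub]; ring

/-- Reduced comparisons transfer along equality of reduced polynomials. -/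
lemma redLE_of_redEq {P Q R : ℚ[X]} (hQ : 0 ≤ alpha d Q) (hR : 0 < alpha d R) (hQR : RedEq d Q R)
    (h : RedLE d P R) : RedLE d P Q := by
  obtain ⟨N, hN⟩ := h
  refine ⟨N, fun m hm => ?_⟩
  have h1 := mul_le_mul_of_nonneg_left (hN m hm) hQ
  have h2 := congrArg (Polynomial.eval (m : ℚ)) hQR
  simp only [eval_smul, smul_eq_mul] at h1 h2 ⊢
  refine le_of_mul_le_mul_left ?_ hR
  have h3 : alpha d P * (alpha d Q * R.eval (m : ℚ)) = alpha d P * (alpha d R * Q.eval (m : ℚ)) := by rw [h2]
  linarith

/-- A nonzero coherent submodule with the reduced polynomial of a semistable module is semistable. -/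
theorem sub (hL : CohB1.IsAmple L) {E K : X.Modules} (hE : ShStab.IsSemistable k X L E d) (a : K ⟶ E) [Mono a]
    (hK : Coh.IsCoh K) (hK0 : ¬ IsZero K) {pK pE : ℚ[X]} (hpK : ShStab.IsHilbPoly k X L K pK)
    (hpE : ShStab.IsHilbPoly k X L E pE) (heq : RedEq d pK pE) : ShStab.IsSemistable k X L K d := by
  obtain ⟨hEc, hE0, hEp, hEss⟩ := hE
  have hαE := alpha_pos hL hEc (dim_of_isPure hEp hEc hE0) hpE
  have hαK := alpha_pos hL hK (hEp K a inferInstance hK hK0) hpK
  refine ⟨hK, hK0, fun W w hw hW hW0 => hEp W (w ≫ a) (by haveI := hw; exact mono_comp w a) hW hW0,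
    fun W w hw hW hW0 hi pW pK' hpW hpK' => ?_⟩
  obtain rfl := isHilbPoly_unique hpK' hpK
  haveI := hw
  refine redLE_of_redEq hαK.le hαE heq (hEss W (w ≫ a) (mono_comp w a) hW hW0 ?_ pW pE hpW hpE)
  intro h
  haveI : Epi a := epi_of_epi w a
  haveI : IsIso a := isIso_of_mono_of_epi a
  exact hi (IsIso.of_isIso_comp_right w a)

/-- A nonzero quotient with the reduced polynomial of a semistable module, by a submodule with the same
reduced polynomial, is semistable. -/
theorem quot (hL : CohB1.IsAmple L) {F I : X.Modules} (hF : ShStab.IsSemistable k X L F d) (b : I ⟶ F) [Mono b]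
    (hI : Coh.IsCoh I) (hC0 : ¬ IsZero (cokernel b)) {pI pF : ℚ[X]} (hpI : ShStab.IsHilbPoly k X L I pI)
    (hpF : ShStab.IsHilbPoly k X L F pF) (heq : RedEq d pI pF) :
    ShStab.IsSemistable k X L (cokernel b) d ∧
      ∀ pC, ShStab.IsHilbPoly k X L (cokernel b) pC → RedEq d pC pF := by
  obtain ⟨hFc, hF0, hFp, hFss⟩ := hF
  have hdF := dim_of_isPure hFp hFc hF0
  have hαF := alpha_pos hL hFc hdF hpF
  obtain ⟨hCc, hdC, hpC⟩ := cokernel_data (k := k) hL hI hFc hdF.le b hpI hpF
  have hCeq : RedEq d (pF - pI) pF := by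
    change alpha d pF • pI = alpha d pI • pF at heq
    show alpha d pF • (pF - pI) = alpha d (pF - pI) • pF
    rw [smul_sub, heq, alpha_sub, sub_smul]
  have key : ∀ (W : X.Modules) (w : W ⟶ cokernel b), Mono w → Coh.IsCoh W → ¬ IsZero W → ∀ pW,
      ShStab.IsHilbPoly k X L W pW → RedLE d (pI + pW) pF := by
    intro W w hw hW hW0 pW hpW
    haveI := hw
    obtain ⟨hR, hdR, hpR⟩ := cokernel_data (k := k) hL hW hCc hdC w hpW hpC
    let π : F ⟶ cokernel w := cokernel.π b ≫ cokernel.π w
    haveI : Epi π := epi_comp _ _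
    obtain ⟨hU, hdU, hpU⟩ := kernel_data (k := k) hL hFc hR hdF.le π hpF hpR
    rw [show pF - (pF - pI - pW) = pI + pW by abel] at hpU
    by_cases hU0 : IsZero (kernel π)
    · rw [isHilbPoly_unique hpU (hilb_isZero hU0)]
      exact ⟨0, fun m _ => by simp [alpha]⟩
    by_cases hiso : IsIso (kernel.ι π)
    · rw [isHilbPoly_unique (hilb_iso (asIso (kernel.ι π)) hpU) hpF]
      exact ⟨0, fun m _ => le_rfl⟩
    exact hFss _ (kernel.ι π) inferInstance hU hU0 hiso _ _ hpU hpF
  have hpure : ShStab.IsPure X (cokernel b) d := by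
    intro W w hw hW hW0
    haveI := hw
    have hdW := dim_mono hW hCc w hdC
    obtain ⟨pW, hpW, -, hαW⟩ := exists_hilb (k := k) hL.1 hW hdW
    by_contra hne
    haveI : IsNoetherian X := CurveCohLib.isNoetherian_of_proper (k := k)
    have h0 : alpha d pW = 0 := by
      have : mult k L d W = 0 := iterD_eq_zero d (additive_euler k) _ List.length_replicate
        (fun N hN => (List.eq_of_mem_replicate hN) ▸ hL.1) W hW (lt_of_le_of_ne hdW hne)
      rw [hαW, this]
      simp
    obtain ⟨N, hN⟩ := key W w hw hW hW0 pW hpW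
    obtain ⟨N', hN'⟩ := hilb_eventually_pos hL hW hW0 hdW hpW
    have h1 := hN _ (le_max_left N N')
    have h2 := hN' _ (le_max_right N N')
    have h3 := congrArg (Polynomial.eval ((max N N' : ℕ) : ℚ)) heq
    simp only [alpha_add, h0, add_zero, eval_smul, eval_add, smul_eq_mul, mul_add] at h1 h3
    have := mul_pos hαF h2
    linarith
  refine ⟨⟨hCc, hC0, hpure, fun W w hw hW hW0 hi pW pC hpW hpC' => ?_⟩,
    fun pC hpC' => by rw [isHilbPoly_unique hpC' hpC]; exact hCeq⟩
  rw [isHilbPoly_unique hpC' hpC]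
  refine redLE_of_redEq (alpha_nonneg hL hCc hdC hpC) hαF hCeq ?_
  obtain ⟨N, hN⟩ := key W w hw hW hW0 pW hpW
  refine ⟨N, fun m hm => ?_⟩
  have h1 := hN m hm
  have h3 := congrArg (Polynomial.eval (m : ℚ)) heq
  simp only [alpha_add, eval_smul, eval_add, smul_eq_mul, mul_add, add_mul] at h1 h3 ⊢
  linarith

theorem redEq_sub {P Q R : ℚ[X]} (h₁ : RedEq d P R) (h₂ : RedEq d Q R) : RedEq d (P - Q) R := by
  change alpha d R • P = alpha d P • R at h₁
  change alpha d R • Q = alpha d Q • R at h₂
  show alpha d R • (P - Q) = alpha d (P - Q) • R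
  rw [smul_sub, h₁, h₂, alpha_sub, sub_smul]

/-- Semistability is invariant under isomorphism. -/
theorem of_iso {E E' : X.Modules} (e : E ≅ E') (h : ShStab.IsSemistable k X L E d) :
    ShStab.IsSemistable k X L E' d := by
  obtain ⟨hc, h0, hp, hss⟩ := h
  refine ⟨isCoh_of_iso e hc, fun hz => h0 (hz.of_iso e), fun W w hw hW hW0 => ?_,
    fun W w hw hW hW0 hi pW pE hpW hpE => ?_⟩
  · haveI := hw
    exact hp W (w ≫ e.inv) inferInstance hW hW0
  · haveI := hw
    exact hss W (w ≫ e.inv) inferInstance hW hW0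
      (fun h => hi (IsIso.of_isIso_comp_right w e.inv)) pW pE hpW (hilb_iso e.symm hpE)

/-- Stability is invariant under isomorphism. -/
theorem isStable_of_iso {E E' : X.Modules} (e : E ≅ E') (h : ShStab.IsStable k X L E d) :
    ShStab.IsStable k X L E' d := by
  obtain ⟨hc, h0, hp, hst⟩ := h
  refine ⟨isCoh_of_iso e hc, fun hz => h0 (hz.of_iso e), fun W w hw hW hW0 => ?_,
    fun W w hw hW hW0 hi pW pE hpW hpE => ?_⟩
  · haveI := hw
    exact hp W (w ≫ e.inv) inferInstance hW hW0
  · haveI := hw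
    exact hst W (w ≫ e.inv) inferInstance hW hW0
      (fun h => hi (IsIso.of_isIso_comp_right w e.inv)) pW pE hpW (hilb_iso e.symm hpE)

lemma redEq_trans {P Q R : ℚ[X]} (hQ : alpha d Q ≠ 0) (h₁ : RedEq d P Q) (h₂ : RedEq d Q R) : RedEq d P R := by
  change alpha d Q • P = alpha d P • Q at h₁
  change alpha d R • Q = alpha d Q • R at h₂
  show alpha d R • P = alpha d P • R
  refine smul_right_injective ℚ[X] hQ ?_
  show alpha d Q • (alpha d R • P) = alpha d Q • (alpha d P • R)
  rw [smul_comm (alpha d Q), h₁, smul_comm (alpha d R), h₂, smul_comm (alpha d P)]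

end Groth.Agent.SSKerX
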