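import Groth.Agent.SSKerX.FibreZero
import Groth.Agent.KZ.LFRes
import Groth.Agent.H9ChowK.SigmaCoh

/-!
# Freeness of graded modules along a point, via quotients of the same reduced polynomial
-/

set_option autoImplicit false
set_option linter.style.haveILetI false
set_option linter.unusedSectionVars false
set_option backward.isDefEq.respectTransparency false
set_option backward.isDefEq.respectTransparency.types false

universe u

open CategoryTheory CategoryTheory.Limits AlgebraicGeometry Polynomial StabCat TopologicalSpace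

noncomputable section

namespace Groth.Agent.SSKerX

open Groth.Agent Groth.Agent.HilbPoly

variable {X : Scheme.{u}} {k : Type u} [Field k] [X.Over (Spec (CommRingCat.of k))]
  [IsProper (X ↘ Spec (CommRingCat.of k))] {L : X.Modules} {d : ℕ}

/-- Quotients of the same reduced polynomial are free where the graded module is. -/
theorem quot_free_of_gr (hL : CohB1.IsAmple L) {E G : X.Modules} (hE : ShStab.IsSemistable k X L E d)
    (sE : LTSeries (Subobject E)) (hsE : ShStab.IsJHFiltration k X L E d sE) {y : X}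
    (hgr : ∃ U : X.Opens, y ∈ U ∧ FlatMod.IsFinLocFree ((grObj sE).restrict U.ι))
    (q : E ⟶ G) [Epi q] (hG : Coh.IsCoh G) {pG pE : ℚ[X]} (hpG : ShStab.IsHilbPoly k X L G pG)
    (hpE : ShStab.IsHilbPoly k X L E pE) (hred : RedEq d pG pE) :
    Module.Free (X.presheaf.stalk y) (G.presheaf.stalk y) := by
  haveI : IsNoetherian X := CurveCohLib.isNoetherian_of_proper (k := k)
  have hd := dim_le_of_isPure hE.2.2.1 hE.1
  obtain ⟨hK, -, hpK⟩ := kernel_data (k := k) hL hE.1 hG hd q hpE hpG
  have hredK : RedEq d (pE - pG) pE := redEq_sub (show RedEq d pE pE from rfl) hred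
  obtain ⟨-, sQ, hsQ, hgrQ⟩ := exists_subQuot hL hE sE hsE {y}
    (fun x hx => by rw [Set.mem_singleton_iff.1 hx]; exact hgr) (kernel.ι q) hK hpK hpE hredK
  obtain ⟨U, hyU, hU⟩ := hgrQ y rfl
  let e : cokernel (kernel.ι q) ≅ G :=
    (cokernelIsCokernel (kernel.ι q)).coconePointUniqueUpToIso
      (Abelian.epiIsCokernelOfKernel (KernelFork.ofι (kernel.ι q) (kernel.condition q)) (kernelIsKernel q))
  have hgrq : Coh.IsQCoh (grObj sQ) := (QCoh.isQCoh_iff_iso (Limits.Sigma.whiskerEquiv Equiv.ulift.{u}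
    (fun j : ULift.{u} (Fin sQ.length) => Iso.refl (factor sQ j.down)))).1
    (H9ChowK.isQCoh_sigma _ fun j => (hsQ.2.2 j.down).1.1.1)
  haveI := pd_stalk_of_series sQ hsQ.1 hsQ.2.1 hgrq hyU hU
  exact (KZ.LFRes.free_iff_pd hG y).2 (hasProjectiveDimensionLT_of_iso ((DerSch.stalkFunctor X y).mapIso e) 1)

/-- If all quotients of the same reduced polynomial are free at a point, some graded module is free near it. -/
theorem exists_gr_free_of_quot_free (hL : CohB1.IsAmple L) {E : X.Modules} (hE : ShStab.IsSemistable k X L E d)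
    {pE : ℚ[X]} (hpE : ShStab.IsHilbPoly k X L E pE) (y : X)
    (h : ∀ (G : X.Modules) (q : E ⟶ G), Epi q → Coh.IsCoh G → ∀ pG, ShStab.IsHilbPoly k X L G pG →
      RedEq d pG pE → Module.Free (X.presheaf.stalk y) (G.presheaf.stalk y)) :
    ∃ s : LTSeries (Subobject E), ShStab.IsJHFiltration k X L E d s ∧
      ∃ U : X.Opens, y ∈ U ∧ FlatMod.IsFinLocFree ((grObj s).restrict U.ι) := by
  classical
  haveI : IsNoetherian X := CurveCohLib.isNoetherian_of_proper (k := k)
  obtain ⟨s, hs⟩ := exists_JH hL hE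
  have hd := dim_le_of_isPure hE.2.2.1 hE.1
  let St := DerSch.stalkFunctor X y
  let R := X.presheaf.stalk y
  have hfd : ∀ i, Coh.IsCoh (factor s i) ∧ ∃ p, ShStab.IsHilbPoly k X L (factor s i) p ∧ RedEq d p pE := fun i => by
    obtain ⟨⟨hc, -, hp, -⟩, hred⟩ := hs.2.2 i
    obtain ⟨p, hp', -, -⟩ := exists_hilb (k := k) hL.1 hc (dim_le_of_isPure hp hc)
    exact ⟨hc, p, hp', hred p pE hp' hpE⟩
  have hse : ∀ i : Fin s.length, (ShortComplex.mk (Subobject.ofLE (s i.castSucc) (s i.succ) (le_of_lt (s.step i)))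
      (cokernel.π _) (cokernel.condition _)).ShortExact := fun i =>
    .mk' (ShortComplex.exact_of_g_is_cokernel _ (cokernelIsCokernel _)) inferInstance inferInstance
  -- the terms
  have hterm : ∀ i : Fin (s.length + 1), Coh.IsCoh (s i : X.Modules) ∧
      ∃ p, ShStab.IsHilbPoly k X L (s i : X.Modules) p ∧ RedEq d p pE := by
    intro i
    induction i using Fin.induction with
    | zero =>
      have hz : IsZero ((s 0 : Subobject E) : X.Modules) := by
        rw [show s 0 = ⊥ from hs.1]; exact (isZero_zero _).of_iso Subobject.botCoeIsoZero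
      exact ⟨isCoh_of_iso (IsZero.iso (isZero_kernel_of_mono (𝟙 E)) hz) (QCoh.isCoh_kernel hE.1 hE.1 (𝟙 E)),
        0, hilb_isZero hz, by simp [RedEq, alpha]⟩
    | succ i ih =>
      obtain ⟨hc, p, hp, hpr⟩ := ih
      obtain ⟨hcf, q, hq, hqr⟩ := hfd i
      have hc' : Coh.IsCoh (s i.succ : X.Modules) :=
        mu_extension.isCoh_ext (hse i) hc hcf (QCoh.isQCoh_X₂ (hse i) hc.1 hcf.1)
      refine ⟨hc', p + q, hilb_add hL.1 (hse i) hc hc' hcf hp hq, ?_⟩
      change alpha d pE • p = alpha d p • pE at hpr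
      change alpha d pE • q = alpha d q • pE at hqr
      show alpha d pE • (p + q) = alpha d (p + q) • pE
      rw [smul_add, hpr, hqr, alpha_add, add_smul]
  -- the split quotients
  have hsplit : ∀ i : Fin (s.length + 1), ∃ r : St.obj E ⟶ St.obj (s i : X.Modules), St.map (s i).arrow ≫ r = 𝟙 _ := by
    intro i
    obtain ⟨hc, p, hp, hpr⟩ := hterm i
    have hC : Coh.IsCoh (cokernel (s i).arrow) := QCoh.isCoh_cokernel hc.1 hE.1 _
    obtain ⟨-, -, hpC⟩ := cokernel_data (k := k) hL hc hE.1 hd (s i).arrow hp hpE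
    haveI hfree : Module.Free R (KZ.LFRes.stk (cokernel (s i).arrow) y) :=
      h _ (cokernel.π _) inferInstance hC _ hpC (redEq_sub (show RedEq d pE pE from rfl) hpr)
    haveI : Module.Projective R (KZ.LFRes.stk (cokernel (s i).arrow) y) := Module.Projective.of_free
    haveI : Projective (KZ.LFRes.stk (cokernel (s i).arrow) y) := (IsProjective.iff_projective (R := R) _).1 ‹_›
    have hS : (ShortComplex.mk (s i).arrow (cokernel.π _) (cokernel.condition (s i).arrow)).ShortExact :=
      .mk' (ShortComplex.exact_of_g_is_cokernel _ (cokernelIsCokernel _)) inferInstance inferInstance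
    have hSy := KZ.LFRes.stk_shortExact hS y
    haveI : Projective ((ShortComplex.mk (s i).arrow (cokernel.π _) (cokernel.condition (s i).arrow)).map St).X₃ :=
      ‹Projective (KZ.LFRes.stk (cokernel (s i).arrow) y)›
    let sp := hSy.splittingOfProjective
    exact ⟨sp.r, sp.f_r⟩
  haveI : Module.Free R (KZ.LFRes.stk E y) := h E (𝟙 E) inferInstance hE.1 pE hpE rfl
  haveI : Module.Projective R (KZ.LFRes.stk E y) := Module.Projective.of_free
  haveI : Projective (St.obj E) := (IsProjective.iff_projective (R := R) (KZ.LFRes.stk E y)).1 ‹_›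
  have hprojT : ∀ i : Fin (s.length + 1), Projective (St.obj (s i : X.Modules)) := fun i => by
    obtain ⟨r, hr⟩ := hsplit i
    exact (Retract.mk (St.map (s i).arrow) r hr).projective
  have hprojF : ∀ i, Projective (St.obj (factor s i)) := fun i => by
    obtain ⟨r, hr⟩ := hsplit i.castSucc
    haveI := hprojT i.succ
    let le := Subobject.ofLE (s i.castSucc) (s i.succ) (le_of_lt (s.step i))
    have hr' : St.map le ≫ (St.map (s i.succ).arrow ≫ r) = 𝟙 _ := by
      rw [← Category.assoc, ← Functor.map_comp, Subobject.ofLE_arrow, hr]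
    have hy := KZ.LFRes.stk_shortExact (hse i) y
    haveI := hy.epi_g
    let sp := ShortComplex.Splitting.ofExactOfRetraction _ hy.exact (St.map (s i.succ).arrow ≫ r) hr' hy.epi_g
    exact @Retract.projective _ _ _ _ (Retract.mk sp.s (St.map (cokernel.π le)) sp.s_g)
      ‹Projective (St.obj (s i.succ : X.Modules))›
  have hgr : Coh.IsCoh (grObj s) := by
    have h1 : Coh.IsCoh (∐ fun j : ULift.{u} (Fin s.length) => factor s j.down) :=
      H9ChowK.isCoh_sigma _ (fun j => (hfd j.down).1) (fun _ => Set.toFinite _)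
    exact isCoh_of_iso (Limits.Sigma.whiskerEquiv Equiv.ulift.{u}
      (fun j : ULift.{u} (Fin s.length) => Iso.refl (factor s j.down))) h1
  haveI : (DerSch.stalkFunctor X y).IsLeftAdjoint := (KFlatLib.skyAdj y).isLeftAdjoint
  haveI := hprojF
  have hpc : Projective (∐ fun j => St.obj (factor s j)) :=
    ⟨fun f e _ => ⟨Limits.Sigma.desc fun b => haveI := hprojF b; Projective.factorThru (Limits.Sigma.ι (fun j => St.obj (factor s j)) b ≫ f) e,
      Limits.Sigma.hom_ext _ _ fun b => by rw [Limits.Sigma.ι_desc_assoc, Projective.factorThru_comp]⟩⟩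
  haveI : Projective (St.obj (grObj s)) := Projective.of_iso (PreservesCoproduct.iso St (factor s)).symm hpc
  haveI : Module.Free R ((grObj s).presheaf.stalk y) :=
    (KZ.LFRes.free_iff_pd hgr y).2 (inferInstanceAs (HasProjectiveDimensionLT (St.obj (grObj s)) 1))
  obtain ⟨U, m, hy, ⟨e⟩⟩ := QCoh.exists_free_nhd_of_free_stalk (KZ.LFRes.isFP_of_isCoh hgr) y
  exact ⟨s, hs, U, hy, fun v => ⟨⊤, m, trivial,
    ⟨(Scheme.Modules.restrictFunctor _).mapIso e ≪≫ QCoh.freeModRestrict _ m⟩⟩⟩

end Groth.Agent.SSKerX
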