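import Groth.Agent.SSKerX.InfCore
import Groth.Agent.ThmA.FlatMono
import Groth.Agent.FlatDvr.FibreStalk
import Mathlib.AlgebraicGeometry.PullbackCarrier

/-!
# Vanishing of a morphism along a section, over an affine base
-/

set_option autoImplicit false
set_option linter.style.haveILetI false
set_option linter.unusedSectionVars false
set_option backward.isDefEq.respectTransparency false
set_option backward.isDefEq.respectTransparency.types false

universe u

open CategoryTheory CategoryTheory.Limits AlgebraicGeometry TopologicalSpace Opposite IsLocalRing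
open TensorProduct

noncomputable section

namespace Groth.Agent.SSKerX

open Groth.Agent

theorem lTensor_apply_eq_zero {A B : Type u} [CommRing A] [CommRing B] [Algebra A B] {M N : Type u} [AddCommGroup M]
    [Module A M] [AddCommGroup N] [Module A N] (l : M →ₗ[A] N) (h : ∀ v, (1 : B) ⊗ₜ[A] l v = 0) (w : B ⊗[A] M) :
    l.lTensor B w = 0 := by
  induction w using TensorProduct.induction_on with
  | zero => exact map_zero _
  | tmul b v => rw [LinearMap.lTensor_tmul, ← mul_one b, ← smul_eq_mul, ← TensorProduct.smul_tmul', h v, smul_zero]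
  | add a b ha hb => rw [map_add, ha, hb, add_zero]

section Pullback

variable {X Y : Scheme.{u}} (f : Y ⟶ X) {E Q : X.Modules} (ψ : E ⟶ Q)

theorem pullback_map_stalk_iff (z : Y) :
    (letI : Algebra (X.presheaf.stalk (f z)) (Y.presheaf.stalk z) := (f.stalkMap z).hom.toAlgebra
     (DerSch.stalkFunctor Y z).map ((Scheme.Modules.pullback f).map ψ) = 0 ↔
       ∀ v, (1 : Y.presheaf.stalk z) ⊗ₜ[X.presheaf.stalk (f z)] (stL ψ (f z) v) = 0) := by
  letI : Algebra (X.presheaf.stalk (f z)) (Y.presheaf.stalk z) := (f.stalkMap z).hom.toAlgebra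
  let ω := KFlatLib.stalkPullbackIso f z
  let χ := (ModuleCat.extendScalars.{u, u, u} (f.stalkMap z).hom).map ((DerSch.stalkFunctor X (f z)).map ψ)
  have e : (DerSch.stalkFunctor Y z).map ((Scheme.Modules.pullback f).map ψ) = ω.hom.app E ≫ χ ≫ ω.inv.app Q := by
    have h := ω.hom.naturality_assoc ψ (ω.inv.app Q)
    rw [Iso.hom_inv_id_app, Category.comp_id] at h
    exact h
  constructor
  · intro h v
    have h0 : χ = 0 := by
      have h1 := ω.hom.naturality ψ
      simp only [Functor.comp_map, h, zero_comp] at h1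
      have h2 : ω.inv.app E ≫ ω.hom.app E ≫ χ = ω.inv.app E ≫ 0 := congrArg (ω.inv.app E ≫ ·) h1.symm
      rwa [Iso.inv_hom_id_app_assoc, comp_zero] at h2
    exact congr(ModuleCat.Hom.hom $h0 ((1 : Y.presheaf.stalk z) ⊗ₜ[X.presheaf.stalk (f z)] v))
  · intro h
    have h0 : χ = 0 := by
      refine ModuleCat.hom_ext (LinearMap.ext fun w => ?_)
      show (stL ψ (f z)).lTensor (Y.presheaf.stalk z) w = 0
      exact lTensor_apply_eq_zero _ h w
    rw [e, h0, zero_comp, comp_zero]

theorem tmul_eq_zero_of_mem {A B : Type u} [CommRing A] [CommRing B] [Algebra A B] {M : Type u} [AddCommGroup M]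
    [Module A M] {m : M} (h : m ∈ RingHom.ker (algebraMap A B) • (⊤ : Submodule A M)) :
    (1 : B) ⊗ₜ[A] m = 0 := by
  refine Submodule.smul_induction_on h (fun r hr w _ => ?_) fun a b ha hb => by rw [tmul_add, ha, hb, add_zero]
  rw [← smul_tmul, Algebra.smul_def, mul_one, RingHom.mem_ker.1 hr, zero_tmul]

theorem mem_of_tmul_eq_zero {A B : Type u} [CommRing A] [CommRing B] [Algebra A B] {M : Type u} [AddCommGroup M]
    [Module A M] (hs : Function.Surjective (algebraMap A B)) {m : M} (h : (1 : B) ⊗ₜ[A] m = 0) :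
    m ∈ RingHom.ker (algebraMap A B) • (⊤ : Submodule A M) := by
  let q := Submodule.mkQ (RingHom.ker (algebraMap A B) • (⊤ : Submodule A M))
  let e : (A ⧸ RingHom.ker (algebraMap A B)) ≃ₗ[A] B := (Algebra.linearMap A B).quotKerEquivOfSurjective hs
  let E := (TensorProduct.congr e (LinearEquiv.refl A M)).symm.trans
    (TensorProduct.quotTensorEquivQuotSMul M (RingHom.ker (algebraMap A B)))
  have h1 : e.symm (1 : B) = Ideal.Quotient.mk _ (1 : A) := e.injective (by
    rw [e.apply_symm_apply]; exact (map_one (algebraMap A B)).symm)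
  have h2 : E ((1 : B) ⊗ₜ[A] m) = Submodule.Quotient.mk m := by
    simp only [E, LinearEquiv.trans_apply, TensorProduct.congr_symm_tmul, LinearEquiv.refl_symm,
      LinearEquiv.refl_apply, h1]
    rw [TensorProduct.quotTensorEquivQuotSMul_mk_tmul, one_smul]
  rw [← Submodule.Quotient.mk_eq_zero, ← h2, h, map_zero]

/-- A morphism whose stalks land in the kernel of the stalk maps pulls back to zero. -/
theorem pullback_map_eq_zero (h : ∀ z v, stL ψ (f z) v ∈
    RingHom.ker (f.stalkMap z).hom • (⊤ : Submodule (X.presheaf.stalk (f z)) (KZ.LFRes.stk Q (f z)))) :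
    (Scheme.Modules.pullback f).map ψ = 0 := by
  refine CurveHom.eq_zero_of_stalk _ fun z w => ?_
  letI : Algebra (X.presheaf.stalk (f z)) (Y.presheaf.stalk z) := (f.stalkMap z).hom.toAlgebra
  show (DerSch.stalkFunctor Y z).map ((Scheme.Modules.pullback f).map ψ) w = 0
  rw [(pullback_map_stalk_iff f ψ z).2 fun v => tmul_eq_zero_of_mem (h z v)]
  rfl

/-- The stalks of a morphism pulling back to zero land in the kernels of surjective stalk maps. -/
theorem stalk_mem_ker (h : (Scheme.Modules.pullback f).map ψ = 0) (z : Y)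
    (hs : Function.Surjective (f.stalkMap z).hom) (v : KZ.LFRes.stk E (f z)) :
    stL ψ (f z) v ∈
      RingHom.ker (f.stalkMap z).hom • (⊤ : Submodule (X.presheaf.stalk (f z)) (KZ.LFRes.stk Q (f z))) := by
  letI : Algebra (X.presheaf.stalk (f z)) (Y.presheaf.stalk z) := (f.stalkMap z).hom.toAlgebra
  haveI : (DerSch.stalkFunctor Y z).Additive := Functor.additive_of_preserves_binary_products _
  exact mem_of_tmul_eq_zero hs ((pullback_map_stalk_iff f ψ z).1 (by rw [h, Functor.map_zero]) v)

end Pullback

variable {A : Type u} [CommRing A] {X : Scheme.{u}} [X.Over (Spec (CommRingCat.of A))]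

local notation "π₀" => (X ↘ Spec (CommRingCat.of A))

theorem baseHom_eq (x : X) :
    baseHom A x = ((π₀).stalkMap x).hom.comp (StructureSheaf.toStalk A (π₀ x)).hom := by
  refine RingHom.ext fun a => ?_
  refine Eq.symm ?_
  exact Scheme.Hom.germ_stalkMap_apply π₀ ⊤ x trivial _

theorem comap_baseHom (x : X) : (maximalIdeal _).comap (baseHom A x) = (π₀ x).asIdeal := by
  rw [baseHom_eq, ← Ideal.comap_comap, IsLocalRing.maximalIdeal_comap]
  letI : Algebra A ((Spec (CommRingCat.of A)).presheaf.stalk (π₀ x)) := StructureSheaf.stalkAlgebra A _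
  haveI : IsLocalization.AtPrime ((Spec (CommRingCat.of A)).presheaf.stalk (π₀ x)) (π₀ x).asIdeal :=
    StructureSheaf.IsLocalization.to_stalk (CommRingCat.of A) _
  exact IsLocalization.AtPrime.under_maximalIdeal ((Spec (CommRingCat.of A)).presheaf.stalk (π₀ x))
    (π₀ x).asIdeal

theorem ker_stalkMap_fibre {k : Type u} [Field k] {P : Scheme.{u}} (t : Spec (CommRingCat.of k) ⟶ Spec (CommRingCat.of A))
    [IsClosedImmersion t] {j : P ⟶ X} {q : P ⟶ Spec (CommRingCat.of k)} (sq : IsPullback j q π₀ t) (z : P) :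
    RingHom.ker (j.stalkMap z).hom = ((π₀ (j z)).asIdeal).map (baseHom A (j z)) := by
  have key : ∀ w : ↥(pullback π₀ t), RingHom.ker ((pullback.fst π₀ t).stalkMap w).hom =
      ((π₀ (pullback.fst π₀ t w)).asIdeal).map (baseHom A (pullback.fst π₀ t w)) := fun w => by
    rw [ThmA.ker_stalkMap_rational, baseHom_eq, ← Ideal.map_map]
    congr 1
    letI : Algebra A ((Spec (CommRingCat.of A)).presheaf.stalk (π₀ (pullback.fst π₀ t w))) :=
      StructureSheaf.stalkAlgebra A _
    haveI : IsLocalization.AtPrime ((Spec (CommRingCat.of A)).presheaf.stalk (π₀ (pullback.fst π₀ t w)))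
        (π₀ (pullback.fst π₀ t w)).asIdeal := StructureSheaf.IsLocalization.to_stalk (CommRingCat.of A) _
    exact (IsLocalization.AtPrime.map_eq_maximalIdeal (π₀ (pullback.fst π₀ t w)).asIdeal
      ((Spec (CommRingCat.of A)).presheaf.stalk (π₀ (pullback.fst π₀ t w)))).symm
  suffices h : ∀ g : P ⟶ X, g = sq.isoPullback.hom ≫ pullback.fst π₀ t →
      RingHom.ker (g.stalkMap z).hom = ((π₀ (g z)).asIdeal).map (baseHom A (g z)) from
    h j sq.isoPullback_hom_fst.symm
  rintro g rfl
  rw [Scheme.Hom.stalkMap_comp, CommRingCat.hom_comp,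
    RingHom.ker_comp_of_injective _ (ConcreteCategory.bijective_of_isIso (sq.isoPullback.hom.stalkMap z)).1]
  exact key _

/-- Over a flat module, division by an element killed by the maximal ideal modulo `J`. -/
theorem mem_smul_of_flat {M : Type u} [AddCommGroup M] {B : Type u} [CommRing B] [Module B M] (ρ : A →+* B)
    (hfl : letI : Module A M := Module.compHom M ρ; Module.Flat A M) {m J : Ideal A} (hm : m.IsMaximal) {e : A}
    (he : e ∉ J) (hme : ∀ a ∈ m, a * e ∈ J) (w : M) (h : ρ e • w ∈ J.map ρ • (⊤ : Submodule B M)) :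
    w ∈ m.map ρ • (⊤ : Submodule B M) := by
  letI : Algebra A B := ρ.toAlgebra
  letI : Module A M := Module.compHom M ρ
  haveI : IsScalarTower A B M := .of_algebraMap_smul fun _ _ => rfl
  haveI : Module.Flat A M := hfl
  have hmap : ∀ I : Ideal A, (I.map ρ • (⊤ : Submodule B M)).restrictScalars A = I • (⊤ : Submodule A M) :=
    fun I => (Ideal.smul_restrictScalars I (⊤ : Submodule B M))
  have h' : e • w ∈ J • (⊤ : Submodule A M) := by rw [← hmap]; exact h
  suffices hw : w ∈ m • (⊤ : Submodule A M) by rw [← hmap] at hw; exact hw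
  let g : (A ⧸ m) →ₗ[A] A ⧸ J := Submodule.liftQ m (LinearMap.toSpanSingleton A (A ⧸ J) (Ideal.Quotient.mk J e))
    fun a ha => by
      rw [LinearMap.mem_ker, LinearMap.toSpanSingleton_apply]
      exact Ideal.Quotient.eq_zero_iff_mem.2 (hme a ha)
  have hg : Function.Injective g := by
    rw [← LinearMap.ker_eq_bot]
    refine Submodule.ker_liftQ_eq_bot _ _ _ fun a ha => ?_
    by_contra hna
    obtain ⟨b, i, hi, hbi⟩ := hm.exists_inv hna
    refine he ?_
    have h1 : a * e ∈ J := Ideal.Quotient.eq_zero_iff_mem.1 (LinearMap.mem_ker.1 ha)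
    have : e = b * (a * e) + i * e := by rw [← mul_assoc, ← add_mul, hbi, one_mul]
    rw [this]
    exact J.add_mem (J.mul_mem_left _ h1) (hme i hi)
  have hinj := Module.Flat.rTensor_preserves_injective_linearMap (M := M) g hg
  have h0 : (Ideal.Quotient.mk J e) ⊗ₜ[A] w = 0 := by
    apply (TensorProduct.quotTensorEquivQuotSMul M J).injective
    rw [TensorProduct.quotTensorEquivQuotSMul_mk_tmul, map_zero, Submodule.Quotient.mk_eq_zero]
    exact h'
  have h1 : (Ideal.Quotient.mk m 1) ⊗ₜ[A] w = 0 := by
    apply hinj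
    rw [map_zero, LinearMap.rTensor_tmul]
    refine Eq.trans ?_ h0
    congr 1
    show (1 : A) • Ideal.Quotient.mk J e = _
    rw [one_smul]
  have h2 := congrArg (TensorProduct.quotTensorEquivQuotSMul M m) h1
  rw [TensorProduct.quotTensorEquivQuotSMul_mk_tmul, map_zero, one_smul, Submodule.Quotient.mk_eq_zero] at h2
  exact h2

/-- The affine form: a morphism of coherent modules vanishing along a section vanishes over a rational point
above which the modules behave well. -/
theorem stalk_eq_zero_of_fibre [IsNoetherianRing A] [IsLocallyNoetherian X] {E F : X.Modules} (hF : Coh.IsCoh F)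
    (hflat : ∀ x : X, letI : Module A (KZ.LFRes.stk F x) := Module.compHom _ (baseHom A x)
      Module.Flat A (KZ.LFRes.stk F x))
    (η : Spec (CommRingCat.of A) ⟶ X) (hη : η ≫ π₀ = 𝟙 _) (φ : E ⟶ F)
    (hφ : (Scheme.Modules.pullback η).map φ = 0)
    {k : Type u} [Field k] (t : Spec (CommRingCat.of k) ⟶ Spec (CommRingCat.of A)) [IsClosedImmersion t]
    {P : Scheme.{u}} {j : P ⟶ X} {q : P ⟶ Spec (CommRingCat.of k)} (sq : IsPullback j q π₀ t)
    (ξt : Spec (CommRingCat.of k) ⟶ P) (hξt : ξt ≫ j = t ≫ η)
    [Module.Free (X.presheaf.stalk (η (t default))) (KZ.LFRes.stk F (η (t default)))]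
    (hzero : ∀ g : (Scheme.Modules.pullback j).obj E ⟶ (Scheme.Modules.pullback j).obj F,
      (Scheme.Modules.pullback ξt).map g = 0 → g = 0)
    (x : X) (hx : π₀ x = t default) (v : KZ.LFRes.stk E x) : stL φ x v = 0 := by
  let p := t default
  let m := p.asIdeal
  have hcl : IsClosed ({p} : Set ↥(Spec (CommRingCat.of A))) := by
    have h := t.isClosedEmbedding.isClosed_range
    have hr : Set.range t = {p} := Set.eq_singleton_iff_unique_mem.2
      ⟨⟨default, rfl⟩, by rintro _ ⟨y, rfl⟩; rw [Subsingleton.elim y default]⟩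
    rwa [hr] at h
  have hm : m.IsMaximal := (PrimeSpectrum.isClosed_singleton_iff_isMaximal p).1 hcl
  have hover : ∀ z : X, m ≤ (maximalIdeal _).comap (baseHom A z) → π₀ z = p := fun z hz => by
    rw [comap_baseHom] at hz
    exact PrimeSpectrum.ext (hm.eq_of_le (π₀ z).isPrime.ne_top hz).symm
  haveI : IsClosedImmersion j := MorphismProperty.of_isPullback sq.flip ‹IsClosedImmersion t›
  -- the section at the point
  letI : Algebra A ((Spec (CommRingCat.of A)).presheaf.stalk p) := StructureSheaf.stalkAlgebra A p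
  haveI : IsLocalization.AtPrime ((Spec (CommRingCat.of A)).presheaf.stalk p) p.asIdeal :=
    StructureSheaf.IsLocalization.to_stalk (CommRingCat.of A) p
  let σ := (η.stalkMap p).hom
  have hσA : ∀ a, σ (baseHom A (η p) a) = algebraMap A ((Spec (CommRingCat.of A)).presheaf.stalk p) a := fun a => by
    refine (Scheme.Hom.germ_stalkMap_apply η ⊤ p trivial _).trans ?_
    show (Spec (CommRingCat.of A)).presheaf.germ ⊤ p trivial
      ((η ≫ π₀).appTop ((Scheme.ΓSpecIso (CommRingCat.of A)).inv a)) = _
    rw [hη]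
    rfl
  have hσs : Function.Surjective σ := fun c => by
    obtain ⟨⟨a, s⟩, h⟩ := IsLocalization.surj p.asIdeal.primeCompl c
    have hs := IsLocalization.map_units ((Spec (CommRingCat.of A)).presheaf.stalk p) s
    rw [← hσA] at hs
    obtain ⟨w, hw⟩ := (isUnit_of_map_unit (η.stalkMap p).hom _ hs).exists_left_inv
    refine ⟨w * baseHom A (η p) a, ?_⟩
    rw [map_mul, hσA, ← h, ← hσA, mul_comm c, ← mul_assoc, ← map_mul, hw, map_one, one_mul]
  refine stalk_eq_zero_of_mem_pow hF φ m (by rw [comap_baseHom, hx]) (fun n w => ?_) v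
  refine mem_pow_smul φ m (fun z J e _ he hme w h => mem_smul_of_flat (baseHom A z) (hflat z) hm he hme w h)
    (η p) σ (fun J e he hme c hc => ?_) (fun u l => ?_) (fun ψ hψ z hz u => ?_) ‹_› n x w
  · by_contra hcu
    rw [IsLocalRing.notMem_maximalIdeal] at hcu
    rw [show σ.comp (baseHom A (η p)) = algebraMap A ((Spec (CommRingCat.of A)).presheaf.stalk p) from
      RingHom.ext hσA, hσA] at hc
    have h1 := (Ideal.unit_mul_mem_iff_mem _ hcu).1 (mul_comm c _ ▸ hc)
    obtain ⟨s, hs, hse⟩ := (IsLocalization.algebraMap_mem_map_algebraMap_iff p.asIdeal.primeCompl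
      ((Spec (CommRingCat.of A)).presheaf.stalk p) J e).1 h1
    obtain ⟨b, i, hi, hbi⟩ := hm.exists_inv (show s ∉ m from hs)
    refine he ?_
    have : e = b * (s * e) + i * e := by rw [← mul_assoc, ← add_mul, hbi, one_mul]
    rw [this]
    exact J.add_mem (J.mul_mem_left _ hse) (hme i hi)
  · refine RingHom.mem_ker.1 ?_
    refine Submodule.smul_induction_on (p := fun r => l r ∈ RingHom.ker σ) (stalk_mem_ker η φ hφ p hσs u)
      (fun r hr w _ => ?_) fun a b ha hb => by rw [map_add]; exact add_mem ha hb
    rw [map_smul, smul_eq_mul]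
    exact Ideal.mul_mem_right _ _ hr
  · -- the pullback to the fibre
    have hsmul : ∀ a ∈ m, (Scheme.Modules.pullback j).map (Formal.smulMod A F a) = 0 := fun a ha => by
      refine pullback_map_eq_zero _ _ fun w u => ?_
      rw [stL_smulMod, ker_stalkMap_fibre t sq]
      refine Submodule.smul_mem_smul (Ideal.mem_map_of_mem _ ?_) Submodule.mem_top
      have hw : π₀ (j w) = p := by
        rw [← Scheme.Hom.comp_apply, sq.w, Scheme.Hom.comp_apply, Subsingleton.elim (q w) default]
      rw [hw]
      exact ha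
    let adj := Scheme.Modules.pullbackPushforwardAdjunction j
    let πm := cokernel.π (Formal.smulFamily m F)
    haveI : (Scheme.Modules.pullback j).PreservesEpimorphisms := Functor.preservesEpimorphisms_of_adjunction adj
    haveI : Epi ((Scheme.Modules.pullback j).map πm) := inferInstance
    let s : cokernel (Formal.smulFamily m F) ⟶ (Scheme.Modules.pushforward j).obj ((Scheme.Modules.pullback j).obj F) :=
      cokernel.desc _ (adj.unit.app F) (Sigma.hom_ext _ _ fun a => by
        rw [comp_zero, Formal.smulFamily, ← Category.assoc, Sigma.ι_desc]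
        have h := adj.unit.naturality (Formal.smulMod A F (a : A))
        simp only [Functor.id_obj, Functor.id_map, Functor.comp_obj, Functor.comp_map] at h
        rw [h, hsmul a a.2, Functor.map_zero, comp_zero])
    let s' := (adj.homEquiv _ _).symm s
    have hs' : (Scheme.Modules.pullback j).map πm ≫ s' = 𝟙 _ := by
      rw [← adj.homEquiv_naturality_left_symm, cokernel.π_desc, adj.homEquiv_counit, adj.left_triangle_components]
    let g := (Scheme.Modules.pullback j).map ψ ≫ s'
    have hψ0 : (Scheme.Modules.pullback (ξt ≫ j)).map ψ = 0 := by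
      refine pullback_map_eq_zero _ _ fun y u => ?_
      have hy : (ξt ≫ j) y = η p := by
        rw [hξt, Scheme.Hom.comp_apply, Subsingleton.elim y default]
      have hker : maximalIdeal (X.presheaf.stalk ((ξt ≫ j) y)) ≤ RingHom.ker ((ξt ≫ j).stalkMap y).hom := fun r hr =>
        (FlatDvr.eq_zero_or_isUnit_stalk_field k y _).resolve_right fun hu =>
          hr (isUnit_of_map_unit ((ξt ≫ j).stalkMap y).hom r hu)
      refine Submodule.smul_mono_left hker ?_
      generalize (ξt ≫ j) y = y' at hy u ⊢
      subst hy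
      exact hψ u
    have hg : g = 0 := hzero g (by
      rw [Functor.map_comp]
      have h := (Scheme.Modules.pullbackComp ξt j).hom.naturality ψ
      rw [hψ0, comp_zero] at h
      rw [show (Scheme.Modules.pullback ξt).map ((Scheme.Modules.pullback j).map ψ) = 0 from
        (cancel_mono ((Scheme.Modules.pullbackComp ξt j).hom.app _)).1 (h.trans zero_comp.symm), zero_comp])
    have hpz : (Scheme.Modules.pullback j).map ψ = 0 := by
      haveI : IsIso ((Scheme.Modules.pullback j).map πm) := by
        haveI : IsSplitMono ((Scheme.Modules.pullback j).map πm) := ⟨⟨s', hs'⟩⟩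
        exact isIso_of_mono_of_epi _
      haveI : IsIso s' := by
        rw [show s' = inv ((Scheme.Modules.pullback j).map πm) from IsIso.eq_inv_of_hom_inv_id hs']
        infer_instance
      rw [← cancel_mono s', zero_comp]
      exact hg
    -- back to the stalk
    obtain ⟨w, hw⟩ : z ∈ Set.range j := by
      have hr : z ∈ Set.range (pullback.fst π₀ t) := by
        rw [Scheme.Pullback.range_fst]
        exact ⟨default, (hover z hz).symm⟩
      obtain ⟨w, rfl⟩ := hr
      refine ⟨sq.isoPullback.inv w, ?_⟩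
      rw [← Scheme.Hom.comp_apply, sq.isoPullback_inv_fst]
    subst hw
    have h1 := stalk_mem_ker j ψ hpz w (j.stalkMap_surjective w) u
    rw [ker_stalkMap_fibre t sq, hover _ hz] at h1
    refine Submodule.smul_induction_on (p := fun r => r = 0) h1 (fun r hr y _ => ?_) fun a b ha hb => by
      rw [ha, hb, add_zero]
    obtain ⟨y, rfl⟩ := surjective_stL_π πm _ y
    rw [← map_smul]
    exact (stL_π_eq_zero_iff m F _ _).2 (Submodule.smul_mem_smul hr Submodule.mem_top)

end Groth.Agent.SSKerX
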