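import Groth.Agent.ExtShX.LinearHom
import Groth.Agent.KFlatLib.Scheme.Pullback
import Groth.Agent.KFlatLib.Scheme.Exact
import Groth.Agent.KZ.LFRes
import Groth.Agent.Lib.CurveHom
import Groth.Agent.KRRReg.KMaps
import Mathlib.RingTheory.Filtration

/-!
# Morphisms into flat modules vanishing on all infinitesimal neighbourhoods of a fibre
-/

set_option autoImplicit false
set_option linter.style.haveILetI false
set_option linter.unusedSectionVars false
set_option backward.isDefEq.respectTransparency false
set_option backward.isDefEq.respectTransparency.types false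

universe u

open CategoryTheory CategoryTheory.Limits AlgebraicGeometry TopologicalSpace Opposite IsLocalRing

noncomputable section

namespace Groth.Agent.SSKerX

open Groth.Agent

variable {A : Type u} [CommRing A] {X : Scheme.{u}} [X.Over (Spec (CommRingCat.of A))]

variable (A) in
/-- The map from the base ring to a local ring. -/
def baseHom (x : X) : A →+* X.presheaf.stalk x :=
  (X.presheaf.germ ⊤ x trivial).hom.comp (Coh.toGlobal (X ↘ Spec (CommRingCat.of A)))

/-- The stalk of a map of modules, linearly. -/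
abbrev stL {M N : X.Modules} (f : M ⟶ N) (x : X) :
    KZ.LFRes.stk M x →ₗ[X.presheaf.stalk x] KZ.LFRes.stk N x :=
  ((DerSch.stalkFunctor X x).map f).hom

theorem stL_comp {L M N : X.Modules} (f : L ⟶ M) (g : M ⟶ N) (x : X) (v : KZ.LFRes.stk L x) :
    stL (f ≫ g) x v = stL g x (stL f x v) := by
  simp only [stL, Functor.map_comp, ModuleCat.hom_comp, LinearMap.coe_comp, Function.comp_apply]

theorem stL_smulMod (M : X.Modules) (a : A) (x : X) (v : KZ.LFRes.stk M x) :
    stL (Formal.smulMod A M a) x v = baseHom A x a • v := by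
  simp only [stL]
  rw [ExtShX.stalk_smulMod]
  rfl

/-- The image of `J M` in a stalk. -/
abbrev JM (J : Ideal A) (M : X.Modules) (x : X) : Submodule (X.presheaf.stalk x) (KZ.LFRes.stk M x) :=
  J.map (baseHom A x) • ⊤

theorem stL_π_smul {J : Ideal A} {a : A} (ha : a ∈ J) (M : X.Modules) (x : X) (v : KZ.LFRes.stk M x) :
    stL (cokernel.π (Formal.smulFamily J M)) x (baseHom A x a • v) = 0 := by
  have h : Formal.smulMod A M a ≫ cokernel.π (Formal.smulFamily J M) = 0 := by
    have e : Limits.Sigma.ι (fun _ : J => M) ⟨a, ha⟩ ≫ Formal.smulFamily J M = Formal.smulMod A M a := by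
      simp [Formal.smulFamily]
    rw [← e, Category.assoc, cokernel.condition, comp_zero]
  rw [← stL_smulMod, ← stL_comp, h]
  simp [stL]

theorem stL_π_eq_zero_iff (J : Ideal A) (M : X.Modules) (x : X) (v : KZ.LFRes.stk M x) :
    stL (cokernel.π (Formal.smulFamily J M)) x v = 0 ↔ v ∈ JM J M x := by
  let St := DerSch.stalkFunctor X x
  constructor
  · intro h
    have hex : (ShortComplex.mk (Formal.smulFamily J M) (cokernel.π _) (cokernel.condition _)).Exact :=
      ShortComplex.exact_of_g_is_cokernel _ (cokernelIsCokernel _)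
    obtain ⟨z, hz⟩ := (ShortComplex.moduleCat_exact_iff _).1 (hex.map St) v h
    have hz' : stL (Formal.smulFamily J M) x z = v := hz
    let q : St.obj M ⟶ ModuleCat.of (X.presheaf.stalk x) (KZ.LFRes.stk M x ⧸ JM J M x) :=
      ModuleCat.ofHom (Submodule.mkQ _)
    haveI : (DerSch.stalkFunctor X x).IsLeftAdjoint := (KFlatLib.skyAdj x).isLeftAdjoint
    have h0 : St.map (Formal.smulFamily J M) ≫ q = 0 := by
      refine (isColimitOfPreserves St (coproductIsCoproduct (fun _ : J => M))).hom_ext fun a => ?_
      show St.map (Limits.Sigma.ι (fun _ : J => M) a.as) ≫ St.map (Formal.smulFamily J M) ≫ q = _ ≫ 0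
      rw [← Category.assoc, ← Functor.map_comp, comp_zero]
      have e : Limits.Sigma.ι (fun _ : J => M) a.as ≫ Formal.smulFamily J M = Formal.smulMod A M (a.as : A) := by
        simp [Formal.smulFamily]
      rw [e]
      refine ModuleCat.hom_ext (LinearMap.ext fun w => ?_)
      show Submodule.Quotient.mk (stL (Formal.smulMod A M (a.as : A)) x w) = 0
      rw [stL_smulMod, Submodule.Quotient.mk_eq_zero]
      exact Submodule.smul_mem_smul (Ideal.mem_map_of_mem _ a.as.2) Submodule.mem_top
    have h1 := congrArg (fun f => ModuleCat.Hom.hom f z) h0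
    have h2 : Submodule.Quotient.mk (p := JM J M x) (stL (Formal.smulFamily J M) x z) = 0 := h1
    rw [hz'] at h2
    exact (Submodule.Quotient.mk_eq_zero _).1 h2
  · intro h
    suffices h' : ∀ r ∈ J.map (baseHom A x), ∀ w, stL (cokernel.π (Formal.smulFamily J M)) x (r • w) = 0 from
      Submodule.smul_induction_on h (fun r hr w _ => h' r hr w) fun a b ha hb => by rw [map_add, ha, hb, add_zero]
    intro r hr w
    induction hr using Submodule.span_induction generalizing w with
    | mem r hr => obtain ⟨a, ha, rfl⟩ := hr; exact stL_π_smul ha M x w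
    | zero => rw [zero_smul, map_zero]
    | add r s _ _ hr hs => rw [add_smul, map_add, hr, hs, add_zero]
    | smul c r _ hr => rw [smul_eq_mul, mul_smul, map_smul, hr, smul_zero]

theorem surjective_stL_π {M N : X.Modules} (f : M ⟶ N) [Epi f] (x : X) : Function.Surjective (stL f x) :=
  (ModuleCat.epi_iff_surjective _).1 (inferInstanceAs (Epi ((DerSch.stalkFunctor X x).map f)))

theorem map_baseHom_eq_top {m : Ideal A} {x : X} (h : ¬ m ≤ (maximalIdeal _).comap (baseHom A x)) :
    m.map (baseHom A x) = ⊤ := by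
  obtain ⟨a, ha, hna⟩ := SetLike.not_le_iff_exists.1 h
  exact Ideal.eq_top_of_isUnit_mem _ (Ideal.mem_map_of_mem _ ha) (IsLocalRing.notMem_maximalIdeal.1 hna)

/-- The infinitesimal induction: vanishing modulo every power of a maximal ideal. -/
theorem mem_pow_smul {E F : X.Modules} (φ : E ⟶ F) (m : Ideal A)
    (hdiv : ∀ (x : X) (J : Ideal A) (e : A), m ≤ (maximalIdeal _).comap (baseHom A x) → e ∉ J →
      (∀ a ∈ m, a * e ∈ J) → ∀ w : KZ.LFRes.stk F x, baseHom A x e • w ∈ JM J F x → w ∈ JM m F x)
    (y₀ : X) {T : Type u} [CommRing T] [IsLocalRing T] (σ : X.presheaf.stalk y₀ →+* T)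
    (hσ : ∀ (J : Ideal A) (e : A), e ∉ J → (∀ a ∈ m, a * e ∈ J) → ∀ c : T,
      σ (baseHom A y₀ e) * c ∈ J.map (σ.comp (baseHom A y₀)) → c ∈ maximalIdeal T)
    [Module.Free (X.presheaf.stalk y₀) (KZ.LFRes.stk F y₀)]
    (hξ : ∀ (v : KZ.LFRes.stk E y₀) (l : KZ.LFRes.stk F y₀ →ₗ[X.presheaf.stalk y₀] X.presheaf.stalk y₀),
      σ (l (stL φ y₀ v)) = 0)
    (hH : ∀ ψ : E ⟶ cokernel (Formal.smulFamily m F),
      (∀ v, stL ψ y₀ v ∈ maximalIdeal (X.presheaf.stalk y₀) • (⊤ : Submodule (X.presheaf.stalk y₀) _)) →
      ∀ x : X, m ≤ (maximalIdeal _).comap (baseHom A x) → ∀ v, stL ψ x v = 0)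
    (hwf : IsNoetherianRing A) (k : ℕ) (x : X) (v : KZ.LFRes.stk E x) : stL φ x v ∈ JM (m ^ k) F x := by
  classical
  suffices h : ∀ J : Ideal A, m ^ k ≤ J → ∀ (x : X) (v : KZ.LFRes.stk E x), stL φ x v ∈ JM J F x from
    h _ le_rfl x v
  intro J
  induction J using WellFoundedGT.induction with
  | ind J ih =>
    intro hJ x v
    by_cases hJtop : J = ⊤
    · rw [hJtop]
      simp [JM, Ideal.map_top]
    have hex : ∃ i, m ^ i ≤ J := ⟨k, hJ⟩
    obtain ⟨j, hj⟩ : ∃ j, Nat.find hex = j + 1 := Nat.exists_eq_succ_of_ne_zero fun h0 =>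
      hJtop (top_le_iff.1 (by have h1 := Nat.find_spec hex; rwa [h0, pow_zero, Ideal.one_eq_top] at h1))
    obtain ⟨e, he, heJ⟩ := SetLike.not_le_iff_exists.1 (Nat.find_min hex (show j < Nat.find hex by omega))
    have hme : ∀ a ∈ m, a * e ∈ J := fun a ha => by
      have h1 := Nat.find_spec hex
      rw [hj, pow_succ'] at h1
      exact h1 (Ideal.mul_mem_mul ha he)
    let I := J ⊔ Ideal.span {e}
    have hI : J < I := lt_of_le_of_ne le_sup_left fun h => heJ (h ▸ Ideal.mem_sup_right (Ideal.subset_span rfl))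
    have hIH := ih I hI (hJ.trans hI.le)
    let πJ := cokernel.π (Formal.smulFamily J F)
    let πm := cokernel.π (Formal.smulFamily m F)
    let p : cokernel (Formal.smulFamily m F) ⟶ cokernel (Formal.smulFamily J F) :=
      cokernel.desc _ (Formal.smulMod A F e ≫ πJ) (by
        refine CurveHom.eq_zero_of_stalk _ fun z w => ?_
        show stL (Formal.smulFamily m F ≫ Formal.smulMod A F e ≫ πJ) z w = 0
        rw [stL_comp, stL_comp, stL_smulMod]
        refine (stL_π_eq_zero_iff J F z _).2 ?_
        have h1 : stL (Formal.smulFamily m F) z w ∈ JM m F z := by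
          rw [← stL_π_eq_zero_iff, ← stL_comp, cokernel.condition]
          simp [stL]
        refine Submodule.smul_induction_on (p := fun r => baseHom A z e • r ∈ JM J F z) h1
          (fun r hr u _ => ?_) fun a b ha hb => by rw [smul_add]; exact add_mem ha hb
        rw [← mul_smul]
        refine Submodule.smul_mem_smul ?_ Submodule.mem_top
        have hle : m.map (baseHom A z) * Ideal.span {baseHom A z e} ≤ J.map (baseHom A z) := by
          rw [← Set.image_singleton, ← Ideal.map_span, ← Ideal.map_mul]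
          refine Ideal.map_mono (Ideal.mul_le.2 fun a ha b hb => ?_)
          obtain ⟨c, rfl⟩ := Ideal.mem_span_singleton'.1 hb
          rw [mul_left_comm]
          exact J.mul_mem_left _ (hme a ha)
        rw [mul_comm]
        exact hle (Ideal.mul_mem_mul hr (Ideal.subset_span rfl)))
    have hp : ∀ (z : X) (w : KZ.LFRes.stk F z), stL p z (stL πm z w) = stL πJ z (baseHom A z e • w) := fun z w => by
      rw [← stL_comp, cokernel.π_desc, stL_comp, stL_smulMod]
    haveI : Mono p := by
      refine KRRReg.mono_of_stalks _ fun z => ?_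
      refine (ModuleCat.mono_iff_injective _).2 ((injective_iff_map_eq_zero (stL p z)).2 fun w hw => ?_)
      obtain ⟨w, rfl⟩ := surjective_stL_π πm z w
      refine (stL_π_eq_zero_iff m F z w).2 ?_
      by_cases hz : m ≤ (maximalIdeal _).comap (baseHom A z)
      · exact hdiv z J e hz heJ hme w ((stL_π_eq_zero_iff J F z _).1 ((hp z w).symm.trans hw))
      · rw [JM, map_baseHom_eq_top hz, Submodule.top_smul]; trivial
    have hdec : ∀ (z : X) (u : KZ.LFRes.stk E z), ∃ w, stL φ z u - baseHom A z e • w ∈ JM J F z := by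
      intro z u
      have h1 := hIH z u
      rw [JM, Ideal.map_sup, Ideal.map_span, Set.image_singleton, Submodule.sup_smul] at h1
      obtain ⟨a, ha, b, hb, hab⟩ := Submodule.mem_sup.1 h1
      rw [Submodule.ideal_span_singleton_smul, Submodule.mem_smul_pointwise_iff_exists] at hb
      obtain ⟨w, -, rfl⟩ := hb
      exact ⟨w, by rw [← hab, add_sub_cancel_right]; exact ha⟩
    have hfac : (φ ≫ πJ) ≫ cokernel.π p = 0 := by
      refine CurveHom.eq_zero_of_stalk _ fun z u => ?_
      show stL ((φ ≫ πJ) ≫ cokernel.π p) z u = 0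
      obtain ⟨w, hw⟩ := hdec z u
      rw [stL_comp, stL_comp, show stL πJ z (stL φ z u) = stL p z (stL πm z w) by
        rw [hp, ← sub_eq_zero, ← map_sub]; exact (stL_π_eq_zero_iff J F z _).2 hw,
        ← stL_comp, cokernel.condition]
      simp [stL]
    let ψ := Abelian.monoLift p (φ ≫ πJ) hfac
    have hψ : ∀ z u, stL p z (stL ψ z u) = stL πJ z (stL φ z u) := fun z u => by
      rw [← stL_comp, Abelian.monoLift_comp, stL_comp]
    have hpoint : ∀ u, stL ψ y₀ u ∈ maximalIdeal (X.presheaf.stalk y₀) • (⊤ : Submodule (X.presheaf.stalk y₀) _) := by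
      intro u
      obtain ⟨w, hw⟩ := hdec y₀ u
      have hinj : Function.Injective (stL p y₀) := (ModuleCat.mono_iff_injective _).1
        (inferInstanceAs (Mono ((DerSch.stalkFunctor X y₀).map p)))
      rw [show stL ψ y₀ u = stL πm y₀ w from hinj (by
        rw [hψ, hp, ← sub_eq_zero, ← map_sub]; exact (stL_π_eq_zero_iff J F y₀ _).2 hw)]
      let b := Module.Free.chooseBasis (X.presheaf.stalk y₀) (KZ.LFRes.stk F y₀)
      have hc : ∀ i, b.repr w i ∈ maximalIdeal (X.presheaf.stalk y₀) := fun i => by
        by_contra hni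
        have hu : IsUnit (σ (b.repr w i)) := (IsLocalRing.notMem_maximalIdeal.1 hni).map σ
        refine IsLocalRing.notMem_maximalIdeal.2 hu (hσ J e heJ hme _ ?_)
        have h1 : b.coord i (stL φ y₀ u - baseHom A y₀ e • w) ∈ J.map (baseHom A y₀) := by
          refine Submodule.smul_induction_on (p := fun r => b.coord i r ∈ J.map (baseHom A y₀)) hw
            (fun r hr q _ => ?_) fun a c ha hc => by rw [map_add]; exact add_mem ha hc
          rw [map_smul, smul_eq_mul]
          exact Ideal.mul_mem_right _ _ hr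
        have h2 := Ideal.mem_map_of_mem σ h1
        rw [Ideal.map_map, map_sub, map_sub, hξ, map_smul, zero_sub, neg_mem_iff, smul_eq_mul, map_mul] at h2
        exact h2
      rw [← b.linearCombination_repr w, Finsupp.linearCombination_apply, map_finsuppSum]
      refine Submodule.sum_mem _ fun i _ => ?_
      dsimp only
      rw [map_smul]
      exact Submodule.smul_mem_smul (hc i) Submodule.mem_top
    have h0 : stL πJ x (stL φ x v) = 0 := by
      rw [← hψ]
      by_cases hx : m ≤ (maximalIdeal _).comap (baseHom A x)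
      · rw [hH ψ hpoint x hx v, map_zero]
      · obtain ⟨w, hw⟩ := surjective_stL_π πm x (stL ψ x v)
        rw [← hw, (stL_π_eq_zero_iff m F x w).2 (by rw [JM, map_baseHom_eq_top hx, Submodule.top_smul]; trivial),
          map_zero]
    exact (stL_π_eq_zero_iff J F x _).1 h0

/-- Krull intersection: the map vanishes at the points over the maximal ideal. -/
theorem stalk_eq_zero_of_mem_pow [IsLocallyNoetherian X] {E F : X.Modules} (hF : Coh.IsCoh F) (φ : E ⟶ F)
    (m : Ideal A) {x : X} (hx : m ≤ (maximalIdeal _).comap (baseHom A x))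
    (h : ∀ k, ∀ v, stL φ x v ∈ JM (m ^ k) F x) (v : KZ.LFRes.stk E x) : stL φ x v = 0 := by
  haveI : Module.Finite (X.presheaf.stalk x) (KZ.LFRes.stk F x) := QCoh.finite_stalk_of_isFT hF.1 hF.2 x
  have hb := Ideal.iInf_pow_smul_eq_bot_of_isLocalRing (M := KZ.LFRes.stk F x) (m.map (baseHom A x))
    (ne_top_of_le_ne_top (maximalIdeal.isMaximal _).ne_top (Ideal.map_le_iff_le_comap.2 hx))
  refine (Submodule.mem_bot (X.presheaf.stalk x)).1 ?_
  rw [← hb]
  refine Submodule.mem_iInf _ |>.2 fun k => ?_
  rw [← Ideal.map_pow]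
  exact h k v

end Groth.Agent.SSKerX
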